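import Cfsg.Agent.H719.RowTorus
import Cfsg.Agent.H568.RowTools

/-!
# Elements with small cyclic centralisers (helper719)

* `HasT S N N0` : some `x : S` of order `N0` such that the centraliser of every `1 ≠ s ∈ ⟨x⟩` is cyclic and killed by `N`;
* `hasT` : from the data of a torus;
* `HasT.cyclic_sylow` : if the prime `p` divides `N0` the Sylow `p`-subgroups are cyclic;
* `HasT.order` : `NoNorm` from orders.
-/

set_option autoImplicit false
set_option linter.unusedSectionVars false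

namespace Cfsg.Agent.H719

open Subgroup

/-- Some `x : S` of order `N0` such that the centraliser of every `1 ≠ s ∈ ⟨x⟩` is cyclic and killed by `N`. -/
def HasT (S : Type*) [Group S] (N N0 : ℕ) : Prop :=
  ∃ x : S, orderOf x = N0 ∧ ∀ s ∈ zpowers x, s ≠ 1 →
    IsCyclic ↥(centralizer {s}) ∧ ∀ y : S, y * s = s * y → y ^ N = 1

theorem exists_orderOf_dvd {S : Type*} [Group S] [Finite S] {x : S} {l : ℕ} (hl : l ∣ orderOf x) :
    ∃ y ∈ zpowers x, orderOf y = l := by
  obtain ⟨m, hm⟩ := hl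
  have h0 : 0 < orderOf x := orderOf_pos x
  have hm0 : m ≠ 0 := by rintro rfl; omega
  refine ⟨x ^ m, npow_mem_zpowers x m, ?_⟩
  rw [orderOf_pow_of_dvd hm0 (by rw [hm]; exact Dvd.intro_left _ rfl), hm, Nat.mul_div_cancel _ (Nat.pos_of_ne_zero hm0)]

/-- A finite group with an element of order `p` whose centraliser is cyclic has cyclic Sylow `p`-subgroups. -/
theorem cyclic_sylow_of_cent {S : Type*} [Group S] [Finite S] {p : ℕ} [hp : Fact p.Prime] {y : S} (hy : orderOf y = p)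
    (hc : IsCyclic ↥(centralizer ({y} : Set S))) : ∃ P : Sylow p S, IsCyclic ↥(P : Subgroup S) := by
  have hyP : IsPGroup p ↥(zpowers y) := IsPGroup.of_card (n := 1) (by rw [Nat.card_zpowers, hy, pow_one])
  obtain ⟨P, hP⟩ := hyP.exists_le_sylow
  refine ⟨P, ?_⟩
  have hyP' : y ∈ (P : Subgroup S) := hP (mem_zpowers y)
  have hne : Nontrivial ↥(P : Subgroup S) := by
    refine ⟨⟨⟨y, hyP'⟩, 1, fun h => ?_⟩⟩
    have h1 : y = 1 := congrArg Subtype.val h
    rw [h1, orderOf_one] at hy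
    exact hp.1.one_lt.ne hy
  have hZ : Nontrivial (center ↥(P : Subgroup S)) := P.isPGroup'.center_nontrivial
  have hZc : p ∣ Nat.card (center ↥(P : Subgroup S)) := by
    obtain ⟨k, hk⟩ := IsPGroup.iff_card.1 (P.isPGroup'.to_subgroup (center ↥(P : Subgroup S)))
    have h1 : 1 < Nat.card (center ↥(P : Subgroup S)) := Finite.one_lt_card
    rw [hk] at h1 ⊢
    exact dvd_pow_self p (by rintro rfl; simp at h1)
  obtain ⟨z, hz⟩ := exists_prime_orderOf_dvd_card' p hZc
  set z' : S := ((z : ↥(P : Subgroup S)) : S) with hz'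
  have hzo : orderOf z' = p := by
    rw [hz', Subgroup.orderOf_coe, Subgroup.orderOf_coe, hz]
  have hcomm : ∀ g ∈ (P : Subgroup S), g * z' = z' * g := fun g hg =>
    congrArg Subtype.val (mem_center_iff.1 z.2 ⟨g, hg⟩)
  have hzC : z' ∈ centralizer ({y} : Set S) := by
    rw [mem_centralizer_singleton_iff]
    exact (hcomm y hyP').symm
  have hyC : y ∈ centralizer ({y} : Set S) := by rw [mem_centralizer_singleton_iff]
  have heq : zpowers y = zpowers z' := by
    refine OddOrderLocal.CyclicSub.eq_of_card_eq_of_le_cyclic hc ?_ ?_ ?_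
    · rwa [zpowers_le]
    · rwa [zpowers_le]
    · rw [Nat.card_zpowers, Nat.card_zpowers, hy, hzo]
  have hle : (P : Subgroup S) ≤ centralizer ({y} : Set S) := by
    intro g hg
    rw [mem_centralizer_singleton_iff]
    have h1 : y ∈ zpowers z' := heq ▸ mem_zpowers y
    obtain ⟨i, hi⟩ := h1
    have hi' : z' ^ i = y := hi
    rw [← hi']
    exact ((show Commute g z' from hcomm g hg).zpow_right i).eq
  have : IsCyclic ↥(centralizer ({y} : Set S)) := hc
  exact isCyclic_of_injective (Subgroup.inclusion hle) (Subgroup.inclusion_injective hle)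

theorem HasT.cyclic_sylow {S : Type*} [Group S] [Finite S] {N N0 : ℕ} (h : HasT S N N0) {p : ℕ} [hp : Fact p.Prime]
    (hpN : p ∣ N0) : ∃ P : Sylow p S, IsCyclic ↥(P : Subgroup S) := by
  obtain ⟨x, hx, hc⟩ := h
  obtain ⟨y, hy, hyo⟩ := exists_orderOf_dvd (x := x) (hx.symm ▸ hpN)
  refine cyclic_sylow_of_cent hyo (hc y hy ?_).1
  rintro rfl
  rw [orderOf_one] at hyo
  exact hp.1.one_lt.ne hyo

/-- `p`-elements do not commute with `x` if `p` does not divide `N`. -/
theorem not_comm_of_not_dvd {S : Type*} [Group S] {N p : ℕ} (hpN : ¬ p ∣ N) {s y : S}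
    (h : y * s = s * y → y ^ N = 1) (hy : orderOf y = p) : y * s ≠ s * y := by
  intro h1
  apply hpN
  rw [← hy]
  exact orderOf_dvd_of_pow_eq_one (h h1)

open Cfsg.Agent.H568 in
theorem HasT.order {S : Type*} [Group S] [Finite S] {N N0 : ℕ} (h : HasT S N N0) {p : ℕ} [hp : Fact p.Prime]
    (hpN : ¬ p ∣ N) {l : ℕ} (hl : l.Prime) (hlN : l ∣ N0)
    (hord : ∀ k : ℕ, k ≠ 0 → p ^ k ∣ Nat.card S → ¬ l ∣ p ^ k - 1) : ∃ x : S, orderOf x = l ∧ NoNorm p x := by
  obtain ⟨x, hx, hc⟩ := h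
  obtain ⟨y, hy, hyo⟩ := exists_orderOf_dvd (x := x) (hx.symm ▸ hlN)
  have hy1 : y ≠ 1 := by
    rintro rfl
    rw [orderOf_one] at hyo
    exact hl.one_lt.ne hyo
  refine ⟨y, hyo, noNorm_of_order hl hyo (fun z hz => ?_) hord⟩
  exact (not_comm_of_not_dvd hpN ((hc y hy hy1).2 z) hz).symm

theorem HasT.congr {S S' : Type*} [Group S] [Group S'] (e : S ≃* S') {N N0 : ℕ} (h : HasT S N N0) : HasT S' N N0 := by
  obtain ⟨x, hx, hc⟩ := h
  refine ⟨e x, by rw [← hx]; exact MulEquiv.orderOf_eq e x, ?_⟩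
  rintro _ ⟨i, rfl⟩ hs
  have hs' : x ^ i ≠ 1 := by
    intro h1
    apply hs
    show (e x) ^ i = 1
    rw [← map_zpow, h1, map_one]
  obtain ⟨h1, h2⟩ := hc _ ⟨i, rfl⟩ hs'
  have he : (e x) ^ i = e (x ^ i) := (map_zpow e x i).symm
  refine ⟨?_, fun y hy => ?_⟩
  · have h3 : ∀ y ∈ centralizer ({(e x) ^ i} : Set S'), e.symm y ∈ centralizer ({x ^ i} : Set S) := by
      intro y hy
      rw [mem_centralizer_singleton_iff] at hy ⊢
      apply e.injective
      rw [map_mul, map_mul, MulEquiv.apply_symm_apply, ← he]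
      exact hy
    let g : ↥(centralizer ({(e x) ^ i} : Set S')) →* ↥(centralizer ({x ^ i} : Set S)) :=
      { toFun := fun y => ⟨e.symm y, h3 y y.2⟩
        map_one' := Subtype.ext (by simp)
        map_mul' := fun a b => Subtype.ext (by simp) }
    refine isCyclic_of_injective g ?_
    intro a b hab
    have h4 : e.symm (a : S') = e.symm (b : S') := congrArg Subtype.val hab
    exact Subtype.ext (e.symm.injective h4)
  · have h3 : e.symm y * x ^ i = x ^ i * e.symm y := by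
      apply e.injective
      rw [map_mul, map_mul, MulEquiv.apply_symm_apply, ← he]
      exact hy
    have h4 := h2 _ h3
    apply e.symm.injective
    rw [map_pow, h4, map_one]

section Torus

open CoxeterSystem Cfsg Cfsg.Lie Cfsg.Lie.ChevalleyDatum
open Cfsg.Agent.ChevalleyStructure Cfsg.Agent.ChevalleyStructure.Elts Cfsg.Agent.ChevalleyStructure.CoxeterGeom
  Cfsg.Agent.ChevalleyStructure.CoxeterGeomTypes Cfsg.Agent.ChevalleyStructure.NPerm
open Cfsg.Agent.Tits.Roots Cfsg.Agent.Tits.Core Cfsg.Agent.Nodes Cfsg.Agent.Nodes.Reps Cfsg.Agent.Nodes.BNOf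
  Cfsg.Agent.Nodes.RGDChev
open Cfsg.Agent.KFacts.RgdChevCoord Cfsg.Agent.GpExc.Field Cfsg.Agent.BpExc.Fr Cfsg.Agent.BpExc.LangFr
  Cfsg.Agent.BpExc.TowChev Cfsg.Agent.BpExc
open Cfsg.Agent.H129.TorusChar Cfsg.Agent.H129.TorusCent Cfsg.Agent.H129.TorusTw Cfsg.Agent.H129.TorusMain
  Cfsg.Agent.H129.TorusUntw Cfsg.Agent.H129.WData Cfsg.Agent.H719.RowTorus

universe u

variable {D : ChevalleyDatum} {l : ℕ} {M : CoxeterMatrix (Fin l)} {hp : IsType D l M} {k : Type u} [Field k]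
  {W : Type*} [Group W] {cs : CoxeterSystem M W} {p e : ℕ} [Fact p.Prime] [CharP k p]
  {F : Type u} [Field F] [Fintype F] {f : F →+* k}

/-- the centralisers are cyclic -/
theorem _root_.Cfsg.Agent.H719.RowTorus.Tor.cyclic [IsAlgClosed k] {hN : NSys M (TT D k) (nc hp k)} {w : W}
    {B : Fin l → Fin l → ℤ} {N N0 : ℕ} {n z t : ↥(D.group k)} {u : k} {x : ↥(D.group F)}
    (h : Tor hp cs f p e (hN := hN) w B N N0 n z t u x) (hq : Fintype.card F = p ^ e) {s : ↥(D.group F)}
    (hs : s ∈ zpowers x) (hs1 : s ≠ 1) : IsCyclic ↥(centralizer ({s} : Set ↥(D.group F))) := by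
  have key : ∀ y ∈ centralizer ({s} : Set ↥(D.group F)), z⁻¹ * emb hp.inList f y * z ∈ zpowers t := by
    intro y hy
    rw [mem_centralizer_singleton_iff] at hy
    exact h.mem_zpowers hs hs1 (by rw [← map_mul, hy, map_mul]) (phi_emb hp f hq y)
  let g : ↥(centralizer ({s} : Set ↥(D.group F))) →* ↥(zpowers t) :=
    { toFun := fun y => ⟨z⁻¹ * emb hp.inList f y * z, key y y.2⟩
      map_one' := Subtype.ext (by simp)
      map_mul' := fun a b => Subtype.ext (by simp [mul_assoc]) }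
  refine isCyclic_of_injective g ?_
  intro a b hab
  have h1 : z⁻¹ * emb hp.inList f a * z = z⁻¹ * emb hp.inList f b * z := congrArg Subtype.val hab
  have h2 : emb hp.inList f (a : ↥(D.group F)) = emb hp.inList f b := mul_left_cancel (mul_right_cancel h1)
  exact Subtype.ext (emb_injective hp.inList f h2)

variable (hp cs)

include hp cs in
/-- **`HasT` from the data of a torus.** -/
theorem hasT [Finite W] (hl : 0 < l) {F : Type u} [Field F] [Fintype F] {q : ℕ} (hq : Fintype.card F = q)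
    {d' : ℕ} {B' : Fin l → Fin l → ℤ} (hB : InvC D l d' B') (hd' : d' ≠ 0) {A : Mat l}
    (hA : ∀ i j, A i j = cartanOf D l i j) {L : List (Fin l × Mat l)} (hL : ChainOK A L) {V B : Mat l}
    {c : Fin l → ℤ} (hcyc : CycOK l (hd L) V B c) {m : ℕ} {R : Fin m → Fin l → ℤ} {prv dep : ℕ → ℕ}
    (hR : RootOK D l (hd L) R prv dep) {N N0 : ℕ} (hfN : fN c (q : ℤ) = N) (hqN : q.Coprime N) (hN0 : N0 ∣ N)
    (hgood : ∀ r : ℕ, r.Prime → r ∣ N0 → ¬ r ∣ Nat.card W ∧ ¬ r ∣ d' ∧ ∀ s, ¬ (r : ℤ) ∣ Gq B (q : ℤ) (R s)) :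
    HasT ↥(D.group F) N N0 := by
  obtain ⟨p, e, hpF, hpc, hpk, he, rfl, hk⟩ := exists_closure hq
  have hpN : ¬ p ∣ N := fun h1 => by
    have h2 : p ∣ Nat.gcd (p ^ e) N := Nat.dvd_gcd (dvd_pow_self p he.ne') h1
    rw [hqN] at h2
    exact hpF.out.one_lt.ne' (Nat.dvd_one.1 h2)
  have hlin := lin_refl hp cs hA hL
  have hc := cyc_of hlin hcyc
  obtain ⟨n, z, t, u, x, hT⟩ := exists_tor (k := AlgebraicClosure F) hp cs (algebraMap F (AlgebraicClosure F)) hl hk
    (hN := nsys_of_locFin hp cs hk p) he hq hB hd' (cs.wordProd (L.map Prod.fst)) hc hfN hpN hN0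
    (fun r hr hrN => ⟨(hgood r hr hrN).1, (hgood r hr hrN).2.1, fun a ha =>
      not_dvd_G hp cs hlin hc hR hfN hr (hrN.trans hN0) hqN (hgood r hr hrN).2.2 ha⟩)
  exact ⟨x, hT.hx, fun s hs hs1 => ⟨hT.cyclic hq hs hs1, fun y hy => hT.pow_eq_one hq hs hs1 hy⟩⟩

end Torus

end Cfsg.Agent.H719
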