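import Cfsg.Agent.H719.AutForm
import Cfsg.Agent.H69.OutGF
import Cfsg.Agent.H70.OutE

/-!
# The realised diagram permutations of the exceptional groups are involutions (helper719)
-/

set_option autoImplicit false

namespace Cfsg.Agent.H719.AutInv

open Cfsg Cfsg.Lie Cfsg.Agent.ChevalleyStructure Cfsg.Agent.ChevalleyStructure.Elts Cfsg.Agent.H70.OutCount Cfsg.Agent.H70.OutE Cfsg.Agent.H79.DiagSymm

universe u

theorem inv_G2 (hD : InList chevG2) {F : Type u} [Field F] : ∀ π ∈ realised hD F, π * π = 1 := by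
  intro π _
  have key : ∀ π : Equiv.Perm (Fin 2), π * π = 1 := by decide
  exact key π

theorem inv_F4 (hD : InList chevF4) {F : Type u} [Field F] : ∀ π ∈ realised hD F, π * π = 1 := by
  intro π hπ
  rcases Cfsg.Agent.H69.OutGF.realised_F4 (F := F) hπ with h | h
  · rw [h, one_mul]
  · rw [h]
    exact (by decide : Cfsg.Agent.H69.OutGF.flip4 * Cfsg.Agent.H69.OutGF.flip4 = 1)

theorem sq_of_card_two {G : Type*} [Group G] {H : Subgroup G} (h : Nat.card H = 2) : ∀ x ∈ H, x * x = 1 := by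
  intro x hx
  have h1 : (⟨x, hx⟩ : H) ^ Nat.card H = 1 := pow_card_eq_one'
  rw [h, pow_two] at h1
  exact congrArg Subtype.val h1

theorem inv_E6 (hD : InList chevE6) {F : Type u} [Field F] : ∀ π ∈ realised hD F, π * π = 1 :=
  sq_of_card_two card_realised_E6

theorem inv_of_symm {D : ChevalleyDatum} (hD : InList D) {F : Type u} [Field F]
    (h : ∀ π : Equiv.Perm (Fin D.rank), D.IsDiagramSymmetry π → π = 1) : ∀ π ∈ realised hD F, π * π = 1 := by
  rintro π ⟨φ, hφ⟩
  rw [h π (H70.DiagSym.isDiagramSymmetry hD hφ), one_mul]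

theorem inv_E7 (hD : InList chevE7) {F : Type u} [Field F] : ∀ π ∈ realised hD F, π * π = 1 :=
  inv_of_symm hD fun _ hπ => eq_one_E7 hπ

theorem inv_E8 (hD : InList chevE8) {F : Type u} [Field F] : ∀ π ∈ realised hD F, π * π = 1 :=
  inv_of_symm hD fun _ hπ => eq_one_E8 hπ

end Cfsg.Agent.H719.AutInv
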