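import Mathlib

/-!
# Orders modulo primes dividing values of cyclotomic polynomials (helper719)

`ord_h` : a root of `Φ_h` in `ZMod l` has order `h` (`l ∤ h`); `phi_of_ord_h` : the converse.  Generated by a script.
-/

set_option autoImplicit false

namespace Cfsg.Agent.H719.Num

theorem prime_of_dvd_mul_pow {p a b : ℕ} (hp : p.Prime) (ha : a.Prime) (hb : b.Prime) {i j : ℕ} (h : p ∣ a ^ i * b ^ j) :
    p = a ∨ p = b := by
  rcases hp.dvd_mul.1 h with h | h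
  · exact Or.inl ((Nat.prime_dvd_prime_iff_eq hp ha).1 (hp.dvd_of_dvd_pow h))
  · exact Or.inr ((Nat.prime_dvd_prime_iff_eq hp hb).1 (hp.dvd_of_dvd_pow h))

theorem ord_3 {l : ℕ} [Fact l.Prime] {x : ZMod l} (hx : 1 + x + x ^ 2 = 0) (hl : ¬ l ∣ 3) : orderOf x = 3 := by
  refine orderOf_eq_of_pow_and_pow_div_prime (by norm_num) ?_ ?_
  · have h1 : x ^ 3 - 1 = (1 + x + x ^ 2) * (-1 + x) := by ring
    rw [hx, zero_mul] at h1
    exact sub_eq_zero.1 h1
  · intro p hp hph h2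
    have hp1 : p ∈ Nat.primeFactors 3 := by rw [Nat.mem_primeFactors]; exact ⟨hp, hph, by norm_num⟩
    have hp2 : p ≤ 3 := Nat.le_of_dvd (by norm_num) hph
    have hp3 : p = 3 := by
      clear h2 hp1
      interval_cases p <;> first | omega | (exfalso; revert hp; norm_num)
    apply hl
    rcases hp3 with rfl
    · have h3 : ((3 : ℕ) : ZMod l) = 0 := by
        have h4 : (1) * (1 + x + x ^ 2) + (-2 - x) * (x ^ 1 - 1) = 3 := by ring
        have h5 : x ^ 1 - 1 = 0 := by rw [sub_eq_zero]; exact h2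
        rw [hx, h5, mul_zero, mul_zero, add_zero] at h4
        exact_mod_cast h4.symm
      rw [ZMod.natCast_eq_zero_iff] at h3
      exact h3.trans (by norm_num)

theorem phi_of_ord_3 {l : ℕ} [Fact l.Prime] {x : ZMod l} (hx : orderOf x = 3) : 1 + x + x ^ 2 = 0 := by
  have h1 : x ^ 3 - 1 = 0 := by rw [sub_eq_zero, ← hx]; exact pow_orderOf_eq_one x
  have h2 : (1 + x + x ^ 2) * (x ^ 1 - 1) = (x ^ 3 - 1) * (1) := by ring
  rw [h1, zero_mul] at h2
  have h3 : ∀ k : ℕ, 0 < k → k < 3 → x ^ k - 1 ≠ 0 := by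
    intro k hk hk2 h4
    have h5 : x ^ k = 1 := sub_eq_zero.1 h4
    have h6 := orderOf_le_of_pow_eq_one hk h5
    omega
  replace h2 := (mul_eq_zero.1 h2).resolve_right (h3 1 (by norm_num) (by norm_num))
  exact h2

theorem ord_6 {l : ℕ} [Fact l.Prime] {x : ZMod l} (hx : 1 - x + x ^ 2 = 0) (hl : ¬ l ∣ 6) : orderOf x = 6 := by
  refine orderOf_eq_of_pow_and_pow_div_prime (by norm_num) ?_ ?_
  · have h1 : x ^ 6 - 1 = (1 - x + x ^ 2) * (-1 - x + x ^ 3 + x ^ 4) := by ring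
    rw [hx, zero_mul] at h1
    exact sub_eq_zero.1 h1
  · intro p hp hph h2
    have hp1 : p ∈ Nat.primeFactors 6 := by rw [Nat.mem_primeFactors]; exact ⟨hp, hph, by norm_num⟩
    have hp2 : p ≤ 6 := Nat.le_of_dvd (by norm_num) hph
    have hp3 : p = 2 ∨ p = 3 := by
      clear h2 hp1
      interval_cases p <;> first | omega | (exfalso; revert hp; norm_num)
    apply hl
    rcases hp3 with rfl | rfl
    · have h3 : ((2 : ℕ) : ZMod l) = 0 := by
        have h4 : (1 + x) * (1 - x + x ^ 2) + (-1) * (x ^ 3 - 1) = 2 := by ring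
        have h5 : x ^ 3 - 1 = 0 := by rw [sub_eq_zero]; exact h2
        rw [hx, h5, mul_zero, mul_zero, add_zero] at h4
        exact_mod_cast h4.symm
      rw [ZMod.natCast_eq_zero_iff] at h3
      exact h3.trans (by norm_num)
    · have h3 : ((3 : ℕ) : ZMod l) = 0 := by
        have h4 : (2 + x) * (1 - x + x ^ 2) + (-1 - x) * (x ^ 2 - 1) = 3 := by ring
        have h5 : x ^ 2 - 1 = 0 := by rw [sub_eq_zero]; exact h2
        rw [hx, h5, mul_zero, mul_zero, add_zero] at h4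
        exact_mod_cast h4.symm
      rw [ZMod.natCast_eq_zero_iff] at h3
      exact h3.trans (by norm_num)

theorem phi_of_ord_6 {l : ℕ} [Fact l.Prime] {x : ZMod l} (hx : orderOf x = 6) : 1 - x + x ^ 2 = 0 := by
  have h1 : x ^ 6 - 1 = 0 := by rw [sub_eq_zero, ← hx]; exact pow_orderOf_eq_one x
  have h2 : (1 - x + x ^ 2) * (x ^ 3 - 1) * (x ^ 2 - 1) = (x ^ 6 - 1) * (-1 + x) := by ring
  rw [h1, zero_mul] at h2
  have h3 : ∀ k : ℕ, 0 < k → k < 6 → x ^ k - 1 ≠ 0 := by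
    intro k hk hk2 h4
    have h5 : x ^ k = 1 := sub_eq_zero.1 h4
    have h6 := orderOf_le_of_pow_eq_one hk h5
    omega
  replace h2 := (mul_eq_zero.1 h2).resolve_right (h3 2 (by norm_num) (by norm_num))
  replace h2 := (mul_eq_zero.1 h2).resolve_right (h3 3 (by norm_num) (by norm_num))
  exact h2

theorem ord_7 {l : ℕ} [Fact l.Prime] {x : ZMod l} (hx : 1 + x + x ^ 2 + x ^ 3 + x ^ 4 + x ^ 5 + x ^ 6 = 0) (hl : ¬ l ∣ 7) : orderOf x = 7 := by
  refine orderOf_eq_of_pow_and_pow_div_prime (by norm_num) ?_ ?_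
  · have h1 : x ^ 7 - 1 = (1 + x + x ^ 2 + x ^ 3 + x ^ 4 + x ^ 5 + x ^ 6) * (-1 + x) := by ring
    rw [hx, zero_mul] at h1
    exact sub_eq_zero.1 h1
  · intro p hp hph h2
    have hp1 : p ∈ Nat.primeFactors 7 := by rw [Nat.mem_primeFactors]; exact ⟨hp, hph, by norm_num⟩
    have hp2 : p ≤ 7 := Nat.le_of_dvd (by norm_num) hph
    have hp3 : p = 7 := by
      clear h2 hp1
      interval_cases p <;> first | omega | (exfalso; revert hp; norm_num)
    apply hl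
    rcases hp3 with rfl
    · have h3 : ((7 : ℕ) : ZMod l) = 0 := by
        have h4 : (1) * (1 + x + x ^ 2 + x ^ 3 + x ^ 4 + x ^ 5 + x ^ 6) + (-6 - 5 * x - 4 * x ^ 2 - 3 * x ^ 3 - 2 * x ^ 4 - x ^ 5) * (x ^ 1 - 1) = 7 := by ring
        have h5 : x ^ 1 - 1 = 0 := by rw [sub_eq_zero]; exact h2
        rw [hx, h5, mul_zero, mul_zero, add_zero] at h4
        exact_mod_cast h4.symm
      rw [ZMod.natCast_eq_zero_iff] at h3
      exact h3.trans (by norm_num)

theorem phi_of_ord_7 {l : ℕ} [Fact l.Prime] {x : ZMod l} (hx : orderOf x = 7) : 1 + x + x ^ 2 + x ^ 3 + x ^ 4 + x ^ 5 + x ^ 6 = 0 := by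
  have h1 : x ^ 7 - 1 = 0 := by rw [sub_eq_zero, ← hx]; exact pow_orderOf_eq_one x
  have h2 : (1 + x + x ^ 2 + x ^ 3 + x ^ 4 + x ^ 5 + x ^ 6) * (x ^ 1 - 1) = (x ^ 7 - 1) * (1) := by ring
  rw [h1, zero_mul] at h2
  have h3 : ∀ k : ℕ, 0 < k → k < 7 → x ^ k - 1 ≠ 0 := by
    intro k hk hk2 h4
    have h5 : x ^ k = 1 := sub_eq_zero.1 h4
    have h6 := orderOf_le_of_pow_eq_one hk h5
    omega
  replace h2 := (mul_eq_zero.1 h2).resolve_right (h3 1 (by norm_num) (by norm_num))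
  exact h2

theorem ord_8 {l : ℕ} [Fact l.Prime] {x : ZMod l} (hx : 1 + x ^ 4 = 0) (hl : ¬ l ∣ 8) : orderOf x = 8 := by
  refine orderOf_eq_of_pow_and_pow_div_prime (by norm_num) ?_ ?_
  · have h1 : x ^ 8 - 1 = (1 + x ^ 4) * (-1 + x ^ 4) := by ring
    rw [hx, zero_mul] at h1
    exact sub_eq_zero.1 h1
  · intro p hp hph h2
    have hp1 : p ∈ Nat.primeFactors 8 := by rw [Nat.mem_primeFactors]; exact ⟨hp, hph, by norm_num⟩
    have hp2 : p ≤ 8 := Nat.le_of_dvd (by norm_num) hph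
    have hp3 : p = 2 := by
      clear h2 hp1
      interval_cases p <;> first | omega | (exfalso; revert hp; norm_num)
    apply hl
    rcases hp3 with rfl
    · have h3 : ((2 : ℕ) : ZMod l) = 0 := by
        have h4 : (1) * (1 + x ^ 4) + (-1) * (x ^ 4 - 1) = 2 := by ring
        have h5 : x ^ 4 - 1 = 0 := by rw [sub_eq_zero]; exact h2
        rw [hx, h5, mul_zero, mul_zero, add_zero] at h4
        exact_mod_cast h4.symm
      rw [ZMod.natCast_eq_zero_iff] at h3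
      exact h3.trans (by norm_num)

theorem phi_of_ord_8 {l : ℕ} [Fact l.Prime] {x : ZMod l} (hx : orderOf x = 8) : 1 + x ^ 4 = 0 := by
  have h1 : x ^ 8 - 1 = 0 := by rw [sub_eq_zero, ← hx]; exact pow_orderOf_eq_one x
  have h2 : (1 + x ^ 4) * (x ^ 4 - 1) = (x ^ 8 - 1) * (1) := by ring
  rw [h1, zero_mul] at h2
  have h3 : ∀ k : ℕ, 0 < k → k < 8 → x ^ k - 1 ≠ 0 := by
    intro k hk hk2 h4
    have h5 : x ^ k = 1 := sub_eq_zero.1 h4
    have h6 := orderOf_le_of_pow_eq_one hk h5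
    omega
  replace h2 := (mul_eq_zero.1 h2).resolve_right (h3 4 (by norm_num) (by norm_num))
  exact h2

theorem ord_9 {l : ℕ} [Fact l.Prime] {x : ZMod l} (hx : 1 + x ^ 3 + x ^ 6 = 0) (hl : ¬ l ∣ 9) : orderOf x = 9 := by
  refine orderOf_eq_of_pow_and_pow_div_prime (by norm_num) ?_ ?_
  · have h1 : x ^ 9 - 1 = (1 + x ^ 3 + x ^ 6) * (-1 + x ^ 3) := by ring
    rw [hx, zero_mul] at h1
    exact sub_eq_zero.1 h1
  · intro p hp hph h2
    have hp1 : p ∈ Nat.primeFactors 9 := by rw [Nat.mem_primeFactors]; exact ⟨hp, hph, by norm_num⟩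
    have hp2 : p ≤ 9 := Nat.le_of_dvd (by norm_num) hph
    have hp3 : p = 3 := by
      clear h2 hp1
      interval_cases p <;> first | omega | (exfalso; revert hp; norm_num)
    apply hl
    rcases hp3 with rfl
    · have h3 : ((3 : ℕ) : ZMod l) = 0 := by
        have h4 : (1) * (1 + x ^ 3 + x ^ 6) + (-2 - x ^ 3) * (x ^ 3 - 1) = 3 := by ring
        have h5 : x ^ 3 - 1 = 0 := by rw [sub_eq_zero]; exact h2
        rw [hx, h5, mul_zero, mul_zero, add_zero] at h4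
        exact_mod_cast h4.symm
      rw [ZMod.natCast_eq_zero_iff] at h3
      exact h3.trans (by norm_num)

theorem phi_of_ord_9 {l : ℕ} [Fact l.Prime] {x : ZMod l} (hx : orderOf x = 9) : 1 + x ^ 3 + x ^ 6 = 0 := by
  have h1 : x ^ 9 - 1 = 0 := by rw [sub_eq_zero, ← hx]; exact pow_orderOf_eq_one x
  have h2 : (1 + x ^ 3 + x ^ 6) * (x ^ 3 - 1) = (x ^ 9 - 1) * (1) := by ring
  rw [h1, zero_mul] at h2
  have h3 : ∀ k : ℕ, 0 < k → k < 9 → x ^ k - 1 ≠ 0 := by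
    intro k hk hk2 h4
    have h5 : x ^ k = 1 := sub_eq_zero.1 h4
    have h6 := orderOf_le_of_pow_eq_one hk h5
    omega
  replace h2 := (mul_eq_zero.1 h2).resolve_right (h3 3 (by norm_num) (by norm_num))
  exact h2

theorem ord_12 {l : ℕ} [Fact l.Prime] {x : ZMod l} (hx : 1 - x ^ 2 + x ^ 4 = 0) (hl : ¬ l ∣ 12) : orderOf x = 12 := by
  refine orderOf_eq_of_pow_and_pow_div_prime (by norm_num) ?_ ?_
  · have h1 : x ^ 12 - 1 = (1 - x ^ 2 + x ^ 4) * (-1 - x ^ 2 + x ^ 6 + x ^ 8) := by ring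
    rw [hx, zero_mul] at h1
    exact sub_eq_zero.1 h1
  · intro p hp hph h2
    have hp1 : p ∈ Nat.primeFactors 12 := by rw [Nat.mem_primeFactors]; exact ⟨hp, hph, by norm_num⟩
    have hp2 : p ≤ 12 := Nat.le_of_dvd (by norm_num) hph
    have hp3 : p = 2 ∨ p = 3 := by
      clear h2 hp1
      interval_cases p <;> first | omega | (exfalso; revert hp; norm_num)
    apply hl
    rcases hp3 with rfl | rfl
    · have h3 : ((2 : ℕ) : ZMod l) = 0 := by
        have h4 : (1 + x ^ 2) * (1 - x ^ 2 + x ^ 4) + (-1) * (x ^ 6 - 1) = 2 := by ring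
        have h5 : x ^ 6 - 1 = 0 := by rw [sub_eq_zero]; exact h2
        rw [hx, h5, mul_zero, mul_zero, add_zero] at h4
        exact_mod_cast h4.symm
      rw [ZMod.natCast_eq_zero_iff] at h3
      exact h3.trans (by norm_num)
    · have h3 : ((3 : ℕ) : ZMod l) = 0 := by
        have h4 : (2 + x ^ 2) * (1 - x ^ 2 + x ^ 4) + (-1 - x ^ 2) * (x ^ 4 - 1) = 3 := by ring
        have h5 : x ^ 4 - 1 = 0 := by rw [sub_eq_zero]; exact h2
        rw [hx, h5, mul_zero, mul_zero, add_zero] at h4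
        exact_mod_cast h4.symm
      rw [ZMod.natCast_eq_zero_iff] at h3
      exact h3.trans (by norm_num)

theorem phi_of_ord_12 {l : ℕ} [Fact l.Prime] {x : ZMod l} (hx : orderOf x = 12) : 1 - x ^ 2 + x ^ 4 = 0 := by
  have h1 : x ^ 12 - 1 = 0 := by rw [sub_eq_zero, ← hx]; exact pow_orderOf_eq_one x
  have h2 : (1 - x ^ 2 + x ^ 4) * (x ^ 6 - 1) * (x ^ 4 - 1) = (x ^ 12 - 1) * (-1 + x ^ 2) := by ring
  rw [h1, zero_mul] at h2
  have h3 : ∀ k : ℕ, 0 < k → k < 12 → x ^ k - 1 ≠ 0 := by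
    intro k hk hk2 h4
    have h5 : x ^ k = 1 := sub_eq_zero.1 h4
    have h6 := orderOf_le_of_pow_eq_one hk h5
    omega
  replace h2 := (mul_eq_zero.1 h2).resolve_right (h3 4 (by norm_num) (by norm_num))
  replace h2 := (mul_eq_zero.1 h2).resolve_right (h3 6 (by norm_num) (by norm_num))
  exact h2

theorem ord_14 {l : ℕ} [Fact l.Prime] {x : ZMod l} (hx : 1 - x + x ^ 2 - x ^ 3 + x ^ 4 - x ^ 5 + x ^ 6 = 0) (hl : ¬ l ∣ 14) : orderOf x = 14 := by
  refine orderOf_eq_of_pow_and_pow_div_prime (by norm_num) ?_ ?_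
  · have h1 : x ^ 14 - 1 = (1 - x + x ^ 2 - x ^ 3 + x ^ 4 - x ^ 5 + x ^ 6) * (-1 - x + x ^ 7 + x ^ 8) := by ring
    rw [hx, zero_mul] at h1
    exact sub_eq_zero.1 h1
  · intro p hp hph h2
    have hp1 : p ∈ Nat.primeFactors 14 := by rw [Nat.mem_primeFactors]; exact ⟨hp, hph, by norm_num⟩
    have hp2 : p ≤ 14 := Nat.le_of_dvd (by norm_num) hph
    have hp3 : p = 2 ∨ p = 7 := by
      clear h2 hp1
      interval_cases p <;> first | omega | (exfalso; revert hp; norm_num)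
    apply hl
    rcases hp3 with rfl | rfl
    · have h3 : ((2 : ℕ) : ZMod l) = 0 := by
        have h4 : (1 + x) * (1 - x + x ^ 2 - x ^ 3 + x ^ 4 - x ^ 5 + x ^ 6) + (-1) * (x ^ 7 - 1) = 2 := by ring
        have h5 : x ^ 7 - 1 = 0 := by rw [sub_eq_zero]; exact h2
        rw [hx, h5, mul_zero, mul_zero, add_zero] at h4
        exact_mod_cast h4.symm
      rw [ZMod.natCast_eq_zero_iff] at h3
      exact h3.trans (by norm_num)
    · have h3 : ((7 : ℕ) : ZMod l) = 0 := by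
        have h4 : (4 + 3 * x) * (1 - x + x ^ 2 - x ^ 3 + x ^ 4 - x ^ 5 + x ^ 6) + (-3 - x - 2 * x ^ 2 - 2 * x ^ 3 - x ^ 4 - 3 * x ^ 5) * (x ^ 2 - 1) = 7 := by ring
        have h5 : x ^ 2 - 1 = 0 := by rw [sub_eq_zero]; exact h2
        rw [hx, h5, mul_zero, mul_zero, add_zero] at h4
        exact_mod_cast h4.symm
      rw [ZMod.natCast_eq_zero_iff] at h3
      exact h3.trans (by norm_num)

theorem phi_of_ord_14 {l : ℕ} [Fact l.Prime] {x : ZMod l} (hx : orderOf x = 14) : 1 - x + x ^ 2 - x ^ 3 + x ^ 4 - x ^ 5 + x ^ 6 = 0 := by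
  have h1 : x ^ 14 - 1 = 0 := by rw [sub_eq_zero, ← hx]; exact pow_orderOf_eq_one x
  have h2 : (1 - x + x ^ 2 - x ^ 3 + x ^ 4 - x ^ 5 + x ^ 6) * (x ^ 7 - 1) * (x ^ 2 - 1) = (x ^ 14 - 1) * (-1 + x) := by ring
  rw [h1, zero_mul] at h2
  have h3 : ∀ k : ℕ, 0 < k → k < 14 → x ^ k - 1 ≠ 0 := by
    intro k hk hk2 h4
    have h5 : x ^ k = 1 := sub_eq_zero.1 h4
    have h6 := orderOf_le_of_pow_eq_one hk h5
    omega
  replace h2 := (mul_eq_zero.1 h2).resolve_right (h3 2 (by norm_num) (by norm_num))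
  replace h2 := (mul_eq_zero.1 h2).resolve_right (h3 7 (by norm_num) (by norm_num))
  exact h2

theorem ord_18 {l : ℕ} [Fact l.Prime] {x : ZMod l} (hx : 1 - x ^ 3 + x ^ 6 = 0) (hl : ¬ l ∣ 18) : orderOf x = 18 := by
  refine orderOf_eq_of_pow_and_pow_div_prime (by norm_num) ?_ ?_
  · have h1 : x ^ 18 - 1 = (1 - x ^ 3 + x ^ 6) * (-1 - x ^ 3 + x ^ 9 + x ^ 12) := by ring
    rw [hx, zero_mul] at h1
    exact sub_eq_zero.1 h1
  · intro p hp hph h2
    have hp1 : p ∈ Nat.primeFactors 18 := by rw [Nat.mem_primeFactors]; exact ⟨hp, hph, by norm_num⟩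
    have hp2 : p ≤ 18 := Nat.le_of_dvd (by norm_num) hph
    have hp3 : p = 2 ∨ p = 3 := by
      clear h2 hp1
      interval_cases p <;> first | omega | (exfalso; revert hp; norm_num)
    apply hl
    rcases hp3 with rfl | rfl
    · have h3 : ((2 : ℕ) : ZMod l) = 0 := by
        have h4 : (1 + x ^ 3) * (1 - x ^ 3 + x ^ 6) + (-1) * (x ^ 9 - 1) = 2 := by ring
        have h5 : x ^ 9 - 1 = 0 := by rw [sub_eq_zero]; exact h2
        rw [hx, h5, mul_zero, mul_zero, add_zero] at h4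
        exact_mod_cast h4.symm
      rw [ZMod.natCast_eq_zero_iff] at h3
      exact h3.trans (by norm_num)
    · have h3 : ((3 : ℕ) : ZMod l) = 0 := by
        have h4 : (2 + x ^ 3) * (1 - x ^ 3 + x ^ 6) + (-1 - x ^ 3) * (x ^ 6 - 1) = 3 := by ring
        have h5 : x ^ 6 - 1 = 0 := by rw [sub_eq_zero]; exact h2
        rw [hx, h5, mul_zero, mul_zero, add_zero] at h4
        exact_mod_cast h4.symm
      rw [ZMod.natCast_eq_zero_iff] at h3
      exact h3.trans (by norm_num)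

theorem phi_of_ord_18 {l : ℕ} [Fact l.Prime] {x : ZMod l} (hx : orderOf x = 18) : 1 - x ^ 3 + x ^ 6 = 0 := by
  have h1 : x ^ 18 - 1 = 0 := by rw [sub_eq_zero, ← hx]; exact pow_orderOf_eq_one x
  have h2 : (1 - x ^ 3 + x ^ 6) * (x ^ 9 - 1) * (x ^ 6 - 1) = (x ^ 18 - 1) * (-1 + x ^ 3) := by ring
  rw [h1, zero_mul] at h2
  have h3 : ∀ k : ℕ, 0 < k → k < 18 → x ^ k - 1 ≠ 0 := by
    intro k hk hk2 h4
    have h5 : x ^ k = 1 := sub_eq_zero.1 h4
    have h6 := orderOf_le_of_pow_eq_one hk h5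
    omega
  replace h2 := (mul_eq_zero.1 h2).resolve_right (h3 6 (by norm_num) (by norm_num))
  replace h2 := (mul_eq_zero.1 h2).resolve_right (h3 9 (by norm_num) (by norm_num))
  exact h2

theorem ord_24 {l : ℕ} [Fact l.Prime] {x : ZMod l} (hx : 1 - x ^ 4 + x ^ 8 = 0) (hl : ¬ l ∣ 24) : orderOf x = 24 := by
  refine orderOf_eq_of_pow_and_pow_div_prime (by norm_num) ?_ ?_
  · have h1 : x ^ 24 - 1 = (1 - x ^ 4 + x ^ 8) * (-1 - x ^ 4 + x ^ 12 + x ^ 16) := by ring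
    rw [hx, zero_mul] at h1
    exact sub_eq_zero.1 h1
  · intro p hp hph h2
    have hp1 : p ∈ Nat.primeFactors 24 := by rw [Nat.mem_primeFactors]; exact ⟨hp, hph, by norm_num⟩
    have hp2 : p ≤ 24 := Nat.le_of_dvd (by norm_num) hph
    have hp3 : p = 2 ∨ p = 3 := by
      clear h2 hp1
      interval_cases p <;> first | omega | (exfalso; revert hp; norm_num)
    apply hl
    rcases hp3 with rfl | rfl
    · have h3 : ((2 : ℕ) : ZMod l) = 0 := by
        have h4 : (1 + x ^ 4) * (1 - x ^ 4 + x ^ 8) + (-1) * (x ^ 12 - 1) = 2 := by ring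
        have h5 : x ^ 12 - 1 = 0 := by rw [sub_eq_zero]; exact h2
        rw [hx, h5, mul_zero, mul_zero, add_zero] at h4
        exact_mod_cast h4.symm
      rw [ZMod.natCast_eq_zero_iff] at h3
      exact h3.trans (by norm_num)
    · have h3 : ((3 : ℕ) : ZMod l) = 0 := by
        have h4 : (2 + x ^ 4) * (1 - x ^ 4 + x ^ 8) + (-1 - x ^ 4) * (x ^ 8 - 1) = 3 := by ring
        have h5 : x ^ 8 - 1 = 0 := by rw [sub_eq_zero]; exact h2
        rw [hx, h5, mul_zero, mul_zero, add_zero] at h4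
        exact_mod_cast h4.symm
      rw [ZMod.natCast_eq_zero_iff] at h3
      exact h3.trans (by norm_num)

theorem phi_of_ord_24 {l : ℕ} [Fact l.Prime] {x : ZMod l} (hx : orderOf x = 24) : 1 - x ^ 4 + x ^ 8 = 0 := by
  have h1 : x ^ 24 - 1 = 0 := by rw [sub_eq_zero, ← hx]; exact pow_orderOf_eq_one x
  have h2 : (1 - x ^ 4 + x ^ 8) * (x ^ 12 - 1) * (x ^ 8 - 1) = (x ^ 24 - 1) * (-1 + x ^ 4) := by ring
  rw [h1, zero_mul] at h2
  have h3 : ∀ k : ℕ, 0 < k → k < 24 → x ^ k - 1 ≠ 0 := by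
    intro k hk hk2 h4
    have h5 : x ^ k = 1 := sub_eq_zero.1 h4
    have h6 := orderOf_le_of_pow_eq_one hk h5
    omega
  replace h2 := (mul_eq_zero.1 h2).resolve_right (h3 8 (by norm_num) (by norm_num))
  replace h2 := (mul_eq_zero.1 h2).resolve_right (h3 12 (by norm_num) (by norm_num))
  exact h2

theorem ord_30 {l : ℕ} [Fact l.Prime] {x : ZMod l} (hx : 1 + x - x ^ 3 - x ^ 4 - x ^ 5 + x ^ 7 + x ^ 8 = 0) (hl : ¬ l ∣ 30) : orderOf x = 30 := by
  refine orderOf_eq_of_pow_and_pow_div_prime (by norm_num) ?_ ?_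
  · have h1 : x ^ 30 - 1 = (1 + x - x ^ 3 - x ^ 4 - x ^ 5 + x ^ 7 + x ^ 8) * (-1 + x - x ^ 2 - x ^ 5 + x ^ 6 - x ^ 7 + x ^ 15 - x ^ 16 + x ^ 17 + x ^ 20 - x ^ 21 + x ^ 22) := by ring
    rw [hx, zero_mul] at h1
    exact sub_eq_zero.1 h1
  · intro p hp hph h2
    have hp1 : p ∈ Nat.primeFactors 30 := by rw [Nat.mem_primeFactors]; exact ⟨hp, hph, by norm_num⟩
    have hp2 : p ≤ 30 := Nat.le_of_dvd (by norm_num) hph
    have hp3 : p = 2 ∨ p = 3 ∨ p = 5 := by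
      clear h2 hp1
      interval_cases p <;> first | omega | (exfalso; revert hp; norm_num)
    apply hl
    rcases hp3 with rfl | rfl | rfl
    · have h3 : ((2 : ℕ) : ZMod l) = 0 := by
        have h4 : (1 - x + x ^ 2 + x ^ 5 - x ^ 6 + x ^ 7) * (1 + x - x ^ 3 - x ^ 4 - x ^ 5 + x ^ 7 + x ^ 8) + (-1) * (x ^ 15 - 1) = 2 := by ring
        have h5 : x ^ 15 - 1 = 0 := by rw [sub_eq_zero]; exact h2
        rw [hx, h5, mul_zero, mul_zero, add_zero] at h4
        exact_mod_cast h4.symm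
      rw [ZMod.natCast_eq_zero_iff] at h3
      exact h3.trans (by norm_num)
    · have h3 : ((3 : ℕ) : ZMod l) = 0 := by
        have h4 : (2 - 2 * x + 2 * x ^ 2 + x ^ 5 - x ^ 6 + x ^ 7) * (1 + x - x ^ 3 - x ^ 4 - x ^ 5 + x ^ 7 + x ^ 8) + (-1 - x ^ 5) * (x ^ 10 - 1) = 3 := by ring
        have h5 : x ^ 10 - 1 = 0 := by rw [sub_eq_zero]; exact h2
        rw [hx, h5, mul_zero, mul_zero, add_zero] at h4
        exact_mod_cast h4.symm
      rw [ZMod.natCast_eq_zero_iff] at h3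
      exact h3.trans (by norm_num)
    · have h3 : ((5 : ℕ) : ZMod l) = 0 := by
        have h4 : (1 - x + 3 * x ^ 2 - x ^ 3 + x ^ 4 + 2 * x ^ 5) * (1 + x - x ^ 3 - x ^ 4 - x ^ 5 + x ^ 7 + x ^ 8) + (-4 + 2 * x ^ 2 + x ^ 3 - 3 * x ^ 6 - 2 * x ^ 7) * (x ^ 6 - 1) = 5 := by ring
        have h5 : x ^ 6 - 1 = 0 := by rw [sub_eq_zero]; exact h2
        rw [hx, h5, mul_zero, mul_zero, add_zero] at h4
        exact_mod_cast h4.symm
      rw [ZMod.natCast_eq_zero_iff] at h3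
      exact h3.trans (by norm_num)

theorem phi_of_ord_30 {l : ℕ} [Fact l.Prime] {x : ZMod l} (hx : orderOf x = 30) : 1 + x - x ^ 3 - x ^ 4 - x ^ 5 + x ^ 7 + x ^ 8 = 0 := by
  have h1 : x ^ 30 - 1 = 0 := by rw [sub_eq_zero, ← hx]; exact pow_orderOf_eq_one x
  have h2 : (1 + x - x ^ 3 - x ^ 4 - x ^ 5 + x ^ 7 + x ^ 8) * (x ^ 15 - 1) * (x ^ 10 - 1) * (x ^ 6 - 1) = (x ^ 30 - 1) * (1 + x - x ^ 3 - x ^ 4 - x ^ 5 - x ^ 6 + x ^ 8 + x ^ 9) := by ring
  rw [h1, zero_mul] at h2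
  have h3 : ∀ k : ℕ, 0 < k → k < 30 → x ^ k - 1 ≠ 0 := by
    intro k hk hk2 h4
    have h5 : x ^ k = 1 := sub_eq_zero.1 h4
    have h6 := orderOf_le_of_pow_eq_one hk h5
    omega
  replace h2 := (mul_eq_zero.1 h2).resolve_right (h3 6 (by norm_num) (by norm_num))
  replace h2 := (mul_eq_zero.1 h2).resolve_right (h3 10 (by norm_num) (by norm_num))
  replace h2 := (mul_eq_zero.1 h2).resolve_right (h3 15 (by norm_num) (by norm_num))
  exact h2

end Cfsg.Agent.H719.Num
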