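import Cfsg.Agent.H719.RowGen
import Cfsg.Agent.H719.Num
import Cfsg.Agent.H568.OwnCharChev
import Cfsg.Agent.Lib.Zsigmondy

/-!
# The rows of the exceptional Chevalley groups: general case distinctions (helper719)
-/

set_option autoImplicit false
set_option linter.unusedSectionVars false

namespace Cfsg.Agent.H719

open Subgroup Cfsg Cfsg.Lie Cfsg.Lie.ChevalleyDatum
open Cfsg.Agent.H568

universe u

/-- A primitive prime divisor of `r ^ (e * h) - 1`. -/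
theorem exists_prim {r e h : ℕ} (hr : r.Prime) (he : 3 ≤ e) (hh : 3 ≤ h) :
    ∃ l : ℕ, l.Prime ∧ (∀ m, l ∣ r ^ m - 1 ↔ e * h ∣ m) ∧ 10 ≤ l ∧ l ≠ r ∧ orderOf ((r ^ e : ℕ) : ZMod l) = h := by
  have hn : 9 ≤ e * h := Nat.mul_le_mul he hh
  obtain ⟨l, hl, h1, h2, h3⟩ := Cfsg.Agent.Lib.Zsigmondy.exists_primitive (a := r) (n := e * h) hr.two_le (by omega)
    (by omega) (by omega)
  have hl1 : 9 ≤ l - 1 := hn.trans (Nat.le_of_dvd (by have := hl.two_le; omega) h2)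
  refine ⟨l, hl, h1, by omega, fun h => h3 (h ▸ dvd_rfl), ?_⟩
  have hr1 : 1 ≤ r ^ e := Nat.one_le_pow _ _ hr.pos
  have key : ∀ m, orderOf ((r ^ e : ℕ) : ZMod l) ∣ m ↔ h ∣ m := by
    intro m
    rw [← Cfsg.Agent.Lib.Zsigmondy.dvd_pow_sub_one_iff hr1, ← pow_mul, h1]
    exact Nat.mul_dvd_mul_iff_left (by omega)
  exact Nat.dvd_antisymm ((key h).2 dvd_rfl) ((key _).1 dvd_rfl)

/-- primes dividing the order -/
theorem ord_of_facs {n l : ℕ} (L : List (ℕ × ℕ)) (E : List ℕ) (hn : n = (L.map fun x => x.1 ^ x.2).prod)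
    (h1 : ∀ x ∈ L, x.1.Prime) (h2 : ∀ x ∈ L, ¬ x.1 ^ (x.2 + 1) ∣ n)
    (h3 : ∀ x ∈ L, x.1 ∈ E ∨ ∀ k ∈ List.range (x.2 + 1), k = 0 ∨ ¬ l ∣ x.1 ^ k - 1)
    {p : ℕ} (hp : p.Prime) (hpE : p ∉ E) (k : ℕ) (hk : k ≠ 0) (hpk : p ^ k ∣ n) : ¬ l ∣ p ^ k - 1 := by
  have h4 : p ∣ n := (dvd_pow_self p hk).trans hpk
  rw [hn, Prime.dvd_prod_iff hp.prime] at h4
  obtain ⟨_, hx, hpx⟩ := h4
  rw [List.mem_map] at hx
  obtain ⟨x, hx, rfl⟩ := hx
  have hpx' : p = x.1 := (Nat.prime_dvd_prime_iff_eq hp (h1 x hx)).1 (hp.dvd_of_dvd_pow hpx)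
  rcases h3 x hx with h5 | h5
  · exact absurd (hpx' ▸ h5) hpE
  · have hk2 : k < x.2 + 1 := by
      by_contra hcon
      apply h2 x hx
      rw [← hpx']
      exact (pow_dvd_pow p (not_lt.1 hcon)).trans hpk
    rcases h5 k (List.mem_range.2 hk2) with h6 | h6
    · exact absurd h6 hk
    · rw [← hpx'] at h6
      exact h6

theorem small_e {r e p q : ℕ} (hr : r.Prime) (hq : q = r ^ e) (hq5 : q ≤ 5) (he : 0 < e) (hp : p.Prime) (hp2 : p ≠ 2)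
    (hpe : p ∣ e) : False := by
  have h1 := Nat.le_of_dvd he hpe
  have h2 := hp.two_le
  have h3 : 3 ≤ e := by omega
  have h4 : 2 ^ 3 ≤ r ^ e := (Nat.pow_le_pow_right (by norm_num) h3).trans (Nat.pow_le_pow_left hr.two_le e)
  omega

theorem finite_group (D : ChevalleyDatum) (F : Type u) [Field F] [Finite F] : Finite ↥(D.group F) := by
  have : Finite (Matrix.GeneralLinearGroup D.Idx F) := inferInstance
  infer_instance

theorem ne_one {F : Type u} [Field F] [Fintype F] (h : 3 ≤ Fintype.card F) : ∃ a : F, a ≠ 0 ∧ a ≠ 1 := by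
  classical
  by_contra hc
  push Not at hc
  have h1 : (Finset.univ : Finset F) ⊆ {0, 1} := by
    intro a _
    by_cases ha : a = 0
    · simp [ha]
    · simp [hc a ha]
  have h2 := Finset.card_le_card h1
  have h3 : ({0, 1} : Finset F).card ≤ 2 := Finset.card_le_two
  rw [Finset.card_univ] at h2
  omega

theorem cube_root {F : Type u} [Field F] [Finite F] (h : ¬ 3 ∣ Nat.card F - 1) (a : F) : ∃ b : F, b ^ 3 = a := by
  by_cases ha : a = 0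
  · exact ⟨0, by rw [ha, zero_pow (by norm_num)]⟩
  · have hc : (Nat.card Fˣ).Coprime 3 := by
      rw [Nat.card_units]
      exact (Nat.coprime_comm.1 ((Nat.Prime.coprime_iff_not_dvd Nat.prime_three).2 h))
    obtain ⟨b, hb⟩ := (powCoprime hc).surjective (Units.mk0 a ha)
    refine ⟨(b : F), ?_⟩
    have h1 := congrArg (fun u : Fˣ => (u : F)) hb
    simpa using h1

section

variable {D : ChevalleyDatum} {F : Type u} [Field F] [Fintype F] {r e : ℕ} [Fact r.Prime] [CharP F r]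

theorem cast_ne_zero {p : ℕ} (hp : p.Prime) (hpr : p ≠ r) : (p : F) ≠ 0 := by
  intro h
  rw [CharP.cast_eq_zero_iff F r] at h
  exact hpr ((Nat.prime_dvd_prime_iff_eq Fact.out hp).1 h).symm

/-- The own characteristic. -/
theorem own_char {N N0 : ℕ} (hT : HasT ↥(D.group F) N N0) (hrN : ¬ r ∣ N) {l : ℕ} (hl : l.Prime) (hlN : l ∣ N0) {h : ℕ}
    (hord : ∀ k, l ∣ Nat.card F ^ k - 1 → h ∣ k)
    (hown : ∀ {l : ℕ}, l.Prime → ∀ {x : ↥(D.group F)}, orderOf x = l →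
      (∀ y : ↥(D.group F), orderOf y = r → x * y ≠ y * x) → (∀ k, l ∣ Nat.card F ^ k - 1 → h ∣ k) → NoNorm r x) :
    ∃ x : ↥(D.group F), NoNorm r x ∧ orderOf x = l := by
  have hfin := finite_group D F
  obtain ⟨x, hx, hc⟩ := hT
  obtain ⟨y, hy, hyo⟩ := exists_orderOf_dvd (x := x) (hx.symm ▸ hlN)
  have hy1 : y ≠ 1 := by
    rintro rfl
    rw [orderOf_one] at hyo
    exact hl.one_lt.ne hyo
  refine ⟨y, hown hl hyo (fun z hz => ?_) hord, hyo⟩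
  exact (not_comm_of_not_dvd hrN ((hc y hy hy1).2 z) hz).symm

/-- The field automorphisms. -/
theorem field_case {N1 N01 N2 N02 : ℕ} (hT1 : HasT ↥(D.group F) N1 N01) (hT2 : HasT ↥(D.group F) N2 N02)
    (hrN : ¬ r ∣ N1) {p : ℕ} [hp : Fact p.Prime] (hco : p ∣ N1 → p ∣ N2 → False)
    (hd1 : D.rank + D.nroots < N01) (hd2 : D.rank + D.nroots < N02) {d' : ℕ} {degs : List ℕ} {l1 l2 h : ℕ}
    (hl1 : PrimL r e d' degs l1) (hlN1 : l1 ∣ N01) (hl2 : PrimL r e d' degs l2) (hlN2 : l2 ∣ N02)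
    (hord : ∀ k, l1 ∣ Nat.card F ^ k - 1 → h ∣ k)
    (hown : ∀ {l : ℕ}, l.Prime → ∀ {x : ↥(D.group F)}, orderOf x = l →
      (∀ y : ↥(D.group F), orderOf y = r → x * y ≠ y * x) → (∀ k, l ∣ Nat.card F ^ k - 1 → h ∣ k) → NoNorm r x) :
    ∃ x : ↥(D.group F), NoNorm p x ∧ ∃ y ∈ zpowers x, PrimL r e d' degs (orderOf y) := by
  have hfin := finite_group D F
  by_cases hpr : p = r
  · subst hpr
    obtain ⟨x, hx, hxl⟩ := own_char hT1 hrN hl1.1 hlN1 hord hown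
    exact ⟨x, hx, x, mem_zpowers x, hxl.symm ▸ hl1⟩
  · by_cases hpN : p ∣ N1
    · obtain ⟨x, hx, hxl⟩ := noNorm_of_hasT hT2 hp.1 (cast_ne_zero (r := r) hp.1 hpr) (fun h => hco hpN h) hd2
      obtain ⟨y, hy, hyo⟩ := exists_orderOf_dvd (x := x) (hxl.symm ▸ hlN2)
      exact ⟨x, hx, y, hy, hyo.symm ▸ hl2⟩
    · obtain ⟨x, hx, hxl⟩ := noNorm_of_hasT hT1 hp.1 (cast_ne_zero (r := r) hp.1 hpr) hpN hd1
      obtain ⟨y, hy, hyo⟩ := exists_orderOf_dvd (x := x) (hxl.symm ▸ hlN1)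
      exact ⟨x, hx, y, hy, hyo.symm ▸ hl1⟩

/-- The inner automorphisms, if both tori are large. -/
theorem inner_case {N1 N01 N2 N02 : ℕ} (hT1 : HasT ↥(D.group F) N1 N01) (hT2 : HasT ↥(D.group F) N2 N02)
    (hrN : ¬ r ∣ N1) {p : ℕ} [hp : Fact p.Prime] (hco : p ∣ N1 → p ∣ N2 → False)
    (hd1 : D.rank + D.nroots < N01) (hd2 : D.rank + D.nroots < N02) {h l1 : ℕ} (hl1 : l1.Prime) (hlN1 : l1 ∣ N01)
    (hord : ∀ k, l1 ∣ Nat.card F ^ k - 1 → h ∣ k)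
    (hown : ∀ {l : ℕ}, l.Prime → ∀ {x : ↥(D.group F)}, orderOf x = l →
      (∀ y : ↥(D.group F), orderOf y = r → x * y ≠ y * x) → (∀ k, l ∣ Nat.card F ^ k - 1 → h ∣ k) → NoNorm r x) :
    ∃ x : ↥(D.group F), NoNorm p x := by
  by_cases hpr : p = r
  · subst hpr
    obtain ⟨x, hx, -⟩ := own_char hT1 hrN hl1 hlN1 hord hown
    exact ⟨x, hx⟩
  · by_cases hpN : p ∣ N1
    · obtain ⟨x, hx, -⟩ := noNorm_of_hasT hT2 hp.1 (cast_ne_zero (r := r) hp.1 hpr) (fun h => hco hpN h) hd2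
      exact ⟨x, hx⟩
    · obtain ⟨x, hx, -⟩ := noNorm_of_hasT hT1 hp.1 (cast_ne_zero (r := r) hp.1 hpr) hpN hd1
      exact ⟨x, hx⟩

/-- The inner automorphisms, if the second torus is small. -/
theorem inner_case' {N1 N01 : ℕ} (hT1 : HasT ↥(D.group F) N1 N01)
    (hrN : ¬ r ∣ N1) {p : ℕ} [hp : Fact p.Prime] (hco : p ∣ N1 → p ∣ N01)
    (hd1 : D.rank + D.nroots < N01) {h l1 : ℕ} (hl1 : l1.Prime) (hlN1 : l1 ∣ N01)
    (hord : ∀ k, l1 ∣ Nat.card F ^ k - 1 → h ∣ k)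
    (hown : ∀ {l : ℕ}, l.Prime → ∀ {x : ↥(D.group F)}, orderOf x = l →
      (∀ y : ↥(D.group F), orderOf y = r → x * y ≠ y * x) → (∀ k, l ∣ Nat.card F ^ k - 1 → h ∣ k) → NoNorm r x) :
    (∃ P : Sylow p ↥(D.group F), IsCyclic ↥(P : Subgroup ↥(D.group F))) ∨ ∃ x : ↥(D.group F), NoNorm p x := by
  have hfin := finite_group D F
  by_cases hpr : p = r
  · subst hpr
    obtain ⟨x, hx, -⟩ := own_char hT1 hrN hl1 hlN1 hord hown
    exact Or.inr ⟨x, hx⟩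
  · by_cases hpN : p ∣ N1
    · exact Or.inl (hT1.cyclic_sylow (hco hpN))
    · obtain ⟨x, hx, -⟩ := noNorm_of_hasT hT1 hp.1 (cast_ne_zero (r := r) hp.1 hpr) hpN hd1
      exact Or.inr ⟨x, hx⟩

/-- The inner automorphisms, small field, `p` not the characteristic. -/
theorem small_case {N l : ℕ} (hT : HasT ↥(D.group F) N l) {p : ℕ} [hp : Fact p.Prime] (hl : l.Prime)
    (hpN : p ∣ N → p = l) {n : ℕ} (hcard : Nat.card ↥(D.group F) = n)
    (hord : p ≠ l → ∀ k : ℕ, k ≠ 0 → p ^ k ∣ n → ¬ l ∣ p ^ k - 1) :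
    (∃ P : Sylow p ↥(D.group F), IsCyclic ↥(P : Subgroup ↥(D.group F))) ∨ ∃ x : ↥(D.group F), NoNorm p x := by
  have hfin := finite_group D F
  by_cases hpl : p = l
  · exact Or.inl (hT.cyclic_sylow (hpl ▸ dvd_rfl))
  · obtain ⟨x, -, hx⟩ := hT.order (p := p) (fun h => hpl (hpN h)) hl dvd_rfl (by rw [hcard]; exact hord hpl)
    exact Or.inr ⟨x, hx⟩

end

end Cfsg.Agent.H719
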