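import Cfsg.Agent.H129.WData

/-!
# Data of a torus of type E6 (helper719): f(x) = 1 + x - x ^ 3 + x ^ 5 + x ^ 6, Phi(x) = 1 - x ^ 2 + x ^ 4

Generated by a script; the word of `w` is 3 0 2 4 5 1.
-/

set_option autoImplicit false
set_option maxRecDepth 4000

namespace Cfsg.Agent.H719.TE6_12

open Cfsg.Agent.H129.TorusTw Cfsg.Agent.H129.WData Cfsg.Agent.ChevalleyStructure.CoxeterGeomTypes
open Cfsg.Lie Cfsg.Lie.ChevalleyDatum

/-- the Cartan matrix -/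
def Am : Mat 6 := ![![2, 0, -1, 0, 0, 0],
    ![0, 2, 0, -1, 0, 0],
    ![-1, 0, 2, -1, 0, 0],
    ![0, -1, -1, 2, -1, 0],
    ![0, 0, 0, -1, 2, -1],
    ![0, 0, 0, 0, -1, 2]]

/-- the partial products -/
def chain : List (Fin 6 × Mat 6) := [
    (3, ![![0, 0, 1, 1, 0, 0],
      ![0, -1, 0, -1, 0, 0],
      ![-1, 0, -1, -1, 0, 0],
      ![1, 1, 1, 2, 1, 0],
      ![0, 0, 0, 0, 0, 1],
      ![0, 0, 0, -1, -1, -1]]),
    (0, ![![0, 0, 1, 0, 0, 0],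
      ![0, -1, 0, 0, 0, 0],
      ![-1, 0, -1, 0, 0, 0],
      ![1, 1, 1, 1, 1, 0],
      ![0, 0, 0, 0, 0, 1],
      ![0, 0, 0, 0, -1, -1]]),
    (2, ![![1, 0, 1, 0, 0, 0],
      ![0, -1, 0, 0, 0, 0],
      ![0, 0, -1, 0, 0, 0],
      ![0, 1, 1, 1, 1, 0],
      ![0, 0, 0, 0, 0, 1],
      ![0, 0, 0, 0, -1, -1]]),
    (4, ![![1, 0, 0, 0, 0, 0],
      ![0, -1, 0, 0, 0, 0],
      ![0, 0, 1, 0, 0, 0],
      ![0, 1, 0, 1, 1, 0],
      ![0, 0, 0, 0, 0, 1],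
      ![0, 0, 0, 0, -1, -1]]),
    (5, ![![1, 0, 0, 0, 0, 0],
      ![0, -1, 0, 0, 0, 0],
      ![0, 0, 1, 0, 0, 0],
      ![0, 1, 0, 1, 0, 0],
      ![0, 0, 0, 0, 1, 1],
      ![0, 0, 0, 0, 0, -1]]),
    (1, ![![1, 0, 0, 0, 0, 0],
      ![0, -1, 0, 0, 0, 0],
      ![0, 0, 1, 0, 0, 0],
      ![0, 1, 0, 1, 0, 0],
      ![0, 0, 0, 0, 1, 0],
      ![0, 0, 0, 0, 0, 1]])]

/-- the matrix of `θ` -/
def Th : Mat 6 := ![![0, 0, 1, 1, 0, 0],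
    ![0, -1, 0, -1, 0, 0],
    ![-1, 0, -1, -1, 0, 0],
    ![1, 1, 1, 2, 1, 0],
    ![0, 0, 0, 0, 0, 1],
    ![0, 0, 0, -1, -1, -1]]

/-- the basis -/
def V : Mat 6 := ![![-1, -1, -2, -2, -1, -1],
    ![0, -1, -1, -1, -1, 0],
    ![0, 0, 0, 0, -1, -1],
    ![0, 0, 0, 1, 1, 0],
    ![1, 1, 1, 2, 1, 1],
    ![1, 1, 2, 2, 1, 0]]

/-- the coordinates -/
def B : Mat 6 := ![![2, 1, -1, -1, 1, 2],
    ![1, -1, 0, -1, 1, 0],
    ![-1, 0, 0, 0, -1, 0],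
    ![-1, 0, 1, 1, 0, -1],
    ![1, 0, -1, 0, 0, 1],
    ![-1, 0, 0, 0, 0, -1]]

/-- the polynomial -/
def c : Fin 6 → ℤ := ![1, 1, 0, -1, 0, 1]

/-- the representatives of the orbits of `θ` on the roots -/
def R : Fin 6 → Fin 6 → ℤ := ![![1, 1, 2, 3, 2, 1],
    ![-1, -1, -2, -2, -1, -1],
    ![1, 1, 2, 2, 1, 1],
    ![0, -1, 0, 0, 0, 0],
    ![0, 0, 0, 0, 0, 1],
    ![0, 0, 0, 0, 0, -1]]

/-- the values of the functional on the representatives -/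
def G : Fin 6 → Fin 6 → ℤ := ![![-1, 0, 0, 1, 0, 0],
    ![1, 0, 0, 0, 0, 0],
    ![-1, 0, 0, 0, 0, 0],
    ![-1, 1, 0, 1, -1, 0],
    ![-1, 0, 0, 0, 0, -1],
    ![1, 0, 0, 0, 0, 1]]

/-- predecessor -/
def prv (r : ℕ) : ℕ := Nat.mod (Nat.shiftRight 0x4600470041352827373629302f1d310e433b3a45443c2c2b192d3e3d383f232113333200001514342624080f0a09002e1c1b0b03020d0c0439162a18171e1110201f120600000701 (8 * r)) 256

/-- depth -/
def dep (r : ℕ) : ℕ := Nat.mod (Nat.shiftRight 0x1000200050b040b070402090209050606030a03010a040801060503070801030a020b00000b020403010807030b000708040a01090a09060605090809020a0705040b0500080607 (8 * r)) 256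

theorem hA : ∀ i j, Am i j = cartanOf chevE6 6 i j := by decide +kernel

theorem chainOK : ChainOK Am chain := by decide +kernel

theorem hd_eq : hd chain = Th := rfl

theorem cycOK : CycOK 6 Th V B c := by decide +kernel

theorem rootOK : RootOK chevE6 6 Th R prv dep := by decide +kernel

theorem coefOK : ∀ s i, ∑ j, R s j * B j i = G s i := by decide +kernel

theorem fN_eq (x : ℤ) : fN c x = 1 + x - x ^ 3 + x ^ 5 + x ^ 6 := by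
  unfold fN c
  simp [Fin.sum_univ_succ]
  try ring

theorem G_0 (x : ℤ) : Gq B x (R 0) = -1 + x ^ 3 := by
  rw [Gq_coef B x (R 0) (G 0) (coefOK 0)]
  unfold G
  simp [Fin.sum_univ_succ]
  try ring

theorem bez_0 (x : ℤ) : (1 + x ^ 2) * (1 - x ^ 2 + x ^ 4) + (-1 - x ^ 3) * (-1 + x ^ 3) = 2 := by
  ring

theorem G_1 (x : ℤ) : Gq B x (R 1) = 1 := by
  rw [Gq_coef B x (R 1) (G 1) (coefOK 1)]
  unfold G
  simp [Fin.sum_univ_succ]
  try ring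

theorem bez_1 (x : ℤ) : (0) * (1 - x ^ 2 + x ^ 4) + (1) * (1) = 1 := by
  ring

theorem G_2 (x : ℤ) : Gq B x (R 2) = -1 := by
  rw [Gq_coef B x (R 2) (G 2) (coefOK 2)]
  unfold G
  simp [Fin.sum_univ_succ]
  try ring

theorem bez_2 (x : ℤ) : (0) * (1 - x ^ 2 + x ^ 4) + (-1) * (-1) = 1 := by
  ring

theorem G_3 (x : ℤ) : Gq B x (R 3) = -1 + x + x ^ 3 - x ^ 4 := by
  rw [Gq_coef B x (R 3) (G 3) (coefOK 3)]
  unfold G
  simp [Fin.sum_univ_succ]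
  try ring

theorem bez_3 (x : ℤ) : (3 + x ^ 2 - 2 * x ^ 3) * (1 - x ^ 2 + x ^ 4) + (1 + x - x ^ 2 - 2 * x ^ 3) * (-1 + x + x ^ 3 - x ^ 4) = 2 := by
  ring

theorem G_4 (x : ℤ) : Gq B x (R 4) = -1 - x ^ 5 := by
  rw [Gq_coef B x (R 4) (G 4) (coefOK 4)]
  unfold G
  simp [Fin.sum_univ_succ]
  try ring

theorem bez_4 (x : ℤ) : (x ^ 2 + x ^ 3 + x ^ 4) * (1 - x ^ 2 + x ^ 4) + (-1 + x ^ 2 + x ^ 3) * (-1 - x ^ 5) = 1 := by
  ring

theorem G_5 (x : ℤ) : Gq B x (R 5) = 1 + x ^ 5 := by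
  rw [Gq_coef B x (R 5) (G 5) (coefOK 5)]
  unfold G
  simp [Fin.sum_univ_succ]
  try ring

theorem bez_5 (x : ℤ) : (x ^ 2 + x ^ 3 + x ^ 4) * (1 - x ^ 2 + x ^ 4) + (1 - x ^ 2 - x ^ 3) * (1 + x ^ 5) = 1 := by
  ring

/-- Common divisors of `Φ(x)` and the value of `Gq` on a representative. -/
theorem dvd_of_G {x r : ℤ} (h : r ∣ 1 - x ^ 2 + x ^ 4) (s : Fin 6) (hs : r ∣ Gq B x (R s)) :
    r ∣ 2 := by
  have key : ∀ {a b g y : ℤ}, a * (1 - x ^ 2 + x ^ 4) + b * g = y → y ∣ 2 → r ∣ g → r ∣ 2 := fun e hy hg => by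
    refine dvd_trans ?_ hy
    rw [← e]
    exact dvd_add (h.mul_left _) (hg.mul_left _)
  fin_cases s
  · exact key (bez_0 x) (by norm_num) (by rw [← G_0]; exact hs)
  · exact key (bez_1 x) (by norm_num) (by rw [← G_1]; exact hs)
  · exact key (bez_2 x) (by norm_num) (by rw [← G_2]; exact hs)
  · exact key (bez_3 x) (by norm_num) (by rw [← G_3]; exact hs)
  · exact key (bez_4 x) (by norm_num) (by rw [← G_4]; exact hs)
  · exact key (bez_5 x) (by norm_num) (by rw [← G_5]; exact hs)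

end Cfsg.Agent.H719.TE6_12
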