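import Cfsg.Agent.H129.WData

/-!
# Data of a torus of type E6 (helper719): f(x) = 1 + x ^ 3 + x ^ 6, Phi(x) = 1 + x ^ 3 + x ^ 6

Generated by a script; the word of `w` is 5 4 3 2 1 0 3 1.
-/

set_option autoImplicit false
set_option maxRecDepth 4000

namespace Cfsg.Agent.H719.TE6_9

open Cfsg.Agent.H129.TorusTw Cfsg.Agent.H129.WData Cfsg.Agent.ChevalleyStructure.CoxeterGeomTypes
open Cfsg.Lie Cfsg.Lie.ChevalleyDatum

/-- the Cartan matrix -/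
def Am : Mat 6 := ![![2, 0, -1, 0, 0, 0],
    ![0, 2, 0, -1, 0, 0],
    ![-1, 0, 2, -1, 0, 0],
    ![0, -1, -1, 2, -1, 0],
    ![0, 0, 0, -1, 2, -1],
    ![0, 0, 0, 0, -1, 2]]

/-- the partial products -/
def chain : List (Fin 6 × Mat 6) := [
    (5, ![![-1, 0, -1, -1, -1, -1],
      ![0, 0, -1, 0, 0, 0],
      ![1, 1, 1, 1, 1, 1],
      ![0, -1, 0, -1, -1, -1],
      ![0, 1, 1, 2, 1, 1],
      ![0, 0, 0, 0, 1, 0]]),
    (4, ![![-1, 0, -1, -1, -1, 0],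
      ![0, 0, -1, 0, 0, 0],
      ![1, 1, 1, 1, 1, 0],
      ![0, -1, 0, -1, -1, 0],
      ![0, 1, 1, 2, 1, 0],
      ![0, 0, 0, 0, 1, 1]]),
    (3, ![![-1, 0, -1, -1, 0, 0],
      ![0, 0, -1, 0, 0, 0],
      ![1, 1, 1, 1, 0, 0],
      ![0, -1, 0, -1, 0, 0],
      ![0, 1, 1, 2, 1, 0],
      ![0, 0, 0, 0, 0, 1]]),
    (2, ![![-1, 0, -1, 0, 0, 0],
      ![0, 0, -1, -1, 0, 0],
      ![1, 1, 1, 1, 0, 0],
      ![0, -1, 0, 0, 0, 0],
      ![0, 1, 1, 1, 1, 0],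
      ![0, 0, 0, 0, 0, 1]]),
    (1, ![![-1, 0, 0, 0, 0, 0],
      ![0, 0, 0, -1, 0, 0],
      ![1, 1, 1, 1, 0, 0],
      ![0, -1, 0, 0, 0, 0],
      ![0, 1, 0, 1, 1, 0],
      ![0, 0, 0, 0, 0, 1]]),
    (0, ![![-1, 0, 0, 0, 0, 0],
      ![0, -1, 0, -1, 0, 0],
      ![1, 0, 1, 1, 0, 0],
      ![0, 1, 0, 0, 0, 0],
      ![0, 0, 0, 1, 1, 0],
      ![0, 0, 0, 0, 0, 1]]),
    (3, ![![1, 0, 0, 0, 0, 0],
      ![0, -1, 0, -1, 0, 0],
      ![0, 0, 1, 1, 0, 0],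
      ![0, 1, 0, 0, 0, 0],
      ![0, 0, 0, 1, 1, 0],
      ![0, 0, 0, 0, 0, 1]]),
    (1, ![![1, 0, 0, 0, 0, 0],
      ![0, -1, 0, 0, 0, 0],
      ![0, 0, 1, 0, 0, 0],
      ![0, 1, 0, 1, 0, 0],
      ![0, 0, 0, 0, 1, 0],
      ![0, 0, 0, 0, 0, 1]])]

/-- the matrix of `θ` -/
def Th : Mat 6 := ![![-1, 0, -1, -1, -1, -1],
    ![0, 0, -1, 0, 0, 0],
    ![1, 1, 1, 1, 1, 1],
    ![0, -1, 0, -1, -1, -1],
    ![0, 1, 1, 2, 1, 1],
    ![0, 0, 0, 0, 1, 0]]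

/-- the basis -/
def V : Mat 6 := ![![-1, -2, -2, -3, -2, -1],
    ![-1, -1, -1, -2, -1, 0],
    ![0, 0, 0, 0, 1, 1],
    ![0, 1, 1, 2, 2, 1],
    ![1, 1, 2, 3, 2, 1],
    ![1, 1, 2, 2, 1, 0]]

/-- the coordinates -/
def B : Mat 6 := ![![0, -1, 1, -1, 0, 0],
    ![-1, 0, 0, 0, -1, 0],
    ![0, 1, 0, 0, 0, 1],
    ![0, 0, -1, 0, 1, -1],
    ![1, -1, 1, 1, -1, 1],
    ![-1, 1, 0, -1, 1, -1]]

/-- the polynomial -/
def c : Fin 6 → ℤ := ![1, 0, 0, 1, 0, 0]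

/-- the representatives of the orbits of `θ` on the roots -/
def R : Fin 8 → Fin 6 → ℤ := ![![-1, -2, -2, -3, -2, -1],
    ![1, 2, 2, 3, 2, 1],
    ![0, 1, 1, 1, 1, 1],
    ![0, -1, -1, -1, -1, -1],
    ![0, 1, 1, 1, 0, 0],
    ![0, 1, 0, 0, 0, 0],
    ![0, -1, -1, -1, 0, 0],
    ![0, -1, 0, 0, 0, 0]]

/-- the values of the functional on the representatives -/
def G : Fin 8 → Fin 6 → ℤ := ![![1, 0, 0, 0, 0, 0],
    ![-1, 0, 0, 0, 0, 0],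
    ![-1, 1, 0, 0, 0, 0],
    ![1, -1, 0, 0, 0, 0],
    ![-1, 1, -1, 0, 0, 0],
    ![-1, 0, 0, 0, -1, 0],
    ![1, -1, 1, 0, 0, 0],
    ![1, 0, 0, 0, 1, 0]]

/-- predecessor -/
def prv (r : ℕ) : ℕ := Nat.mod (Nat.shiftRight 0x372d2c463433472a44430f36352b32262542003c00203f3e000a2928190d313007240641234017163a2e1f1e3d00090827000b00052221151c12113804031d001413011b1a1000 (8 * r)) 256

/-- depth -/
def dep (r : ℕ) : ℕ := Nat.mod (Nat.shiftRight 0x408060501040102070602080308010307020003000503080007050701040604020605050602040604010705070008030500030002070301080308020607020104010506080400 (8 * r)) 256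

theorem hA : ∀ i j, Am i j = cartanOf chevE6 6 i j := by decide +kernel

theorem chainOK : ChainOK Am chain := by decide +kernel

theorem hd_eq : hd chain = Th := rfl

theorem cycOK : CycOK 6 Th V B c := by decide +kernel

theorem rootOK : RootOK chevE6 6 Th R prv dep := by decide +kernel

theorem coefOK : ∀ s i, ∑ j, R s j * B j i = G s i := by decide +kernel

theorem fN_eq (x : ℤ) : fN c x = 1 + x ^ 3 + x ^ 6 := by
  unfold fN c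
  simp [Fin.sum_univ_succ]
  try ring

theorem G_0 (x : ℤ) : Gq B x (R 0) = 1 := by
  rw [Gq_coef B x (R 0) (G 0) (coefOK 0)]
  unfold G
  simp [Fin.sum_univ_succ]
  try ring

theorem bez_0 (x : ℤ) : (0) * (1 + x ^ 3 + x ^ 6) + (1) * (1) = 1 := by
  ring

theorem G_1 (x : ℤ) : Gq B x (R 1) = -1 := by
  rw [Gq_coef B x (R 1) (G 1) (coefOK 1)]
  unfold G
  simp [Fin.sum_univ_succ]
  try ring

theorem bez_1 (x : ℤ) : (0) * (1 + x ^ 3 + x ^ 6) + (-1) * (-1) = 1 := by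
  ring

theorem G_2 (x : ℤ) : Gq B x (R 2) = -1 + x := by
  rw [Gq_coef B x (R 2) (G 2) (coefOK 2)]
  unfold G
  simp [Fin.sum_univ_succ]
  try ring

theorem bez_2 (x : ℤ) : (1) * (1 + x ^ 3 + x ^ 6) + (-2 - 2 * x - 2 * x ^ 2 - x ^ 3 - x ^ 4 - x ^ 5) * (-1 + x) = 3 := by
  ring

theorem G_3 (x : ℤ) : Gq B x (R 3) = 1 - x := by
  rw [Gq_coef B x (R 3) (G 3) (coefOK 3)]
  unfold G
  simp [Fin.sum_univ_succ]
  try ring

theorem bez_3 (x : ℤ) : (1) * (1 + x ^ 3 + x ^ 6) + (2 + 2 * x + 2 * x ^ 2 + x ^ 3 + x ^ 4 + x ^ 5) * (1 - x) = 3 := by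
  ring

theorem G_4 (x : ℤ) : Gq B x (R 4) = -1 + x - x ^ 2 := by
  rw [Gq_coef B x (R 4) (G 4) (coefOK 4)]
  unfold G
  simp [Fin.sum_univ_succ]
  try ring

theorem bez_4 (x : ℤ) : (1) * (1 + x ^ 3 + x ^ 6) + (x ^ 3 + x ^ 4) * (-1 + x - x ^ 2) = 1 := by
  ring

theorem G_5 (x : ℤ) : Gq B x (R 5) = -1 - x ^ 4 := by
  rw [Gq_coef B x (R 5) (G 5) (coefOK 5)]
  unfold G
  simp [Fin.sum_univ_succ]
  try ring

theorem bez_5 (x : ℤ) : (1 + x + x ^ 2) * (1 + x ^ 3 + x ^ 6) + (x + x ^ 2 + x ^ 3 + x ^ 4) * (-1 - x ^ 4) = 1 := by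
  ring

theorem G_6 (x : ℤ) : Gq B x (R 6) = 1 - x + x ^ 2 := by
  rw [Gq_coef B x (R 6) (G 6) (coefOK 6)]
  unfold G
  simp [Fin.sum_univ_succ]
  try ring

theorem bez_6 (x : ℤ) : (1) * (1 + x ^ 3 + x ^ 6) + (-x ^ 3 - x ^ 4) * (1 - x + x ^ 2) = 1 := by
  ring

theorem G_7 (x : ℤ) : Gq B x (R 7) = 1 + x ^ 4 := by
  rw [Gq_coef B x (R 7) (G 7) (coefOK 7)]
  unfold G
  simp [Fin.sum_univ_succ]
  try ring

theorem bez_7 (x : ℤ) : (1 + x + x ^ 2) * (1 + x ^ 3 + x ^ 6) + (-x - x ^ 2 - x ^ 3 - x ^ 4) * (1 + x ^ 4) = 1 := by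
  ring

/-- Common divisors of `Φ(x)` and the value of `Gq` on a representative. -/
theorem dvd_of_G {x r : ℤ} (h : r ∣ 1 + x ^ 3 + x ^ 6) (s : Fin 8) (hs : r ∣ Gq B x (R s)) :
    r ∣ 3 := by
  have key : ∀ {a b g y : ℤ}, a * (1 + x ^ 3 + x ^ 6) + b * g = y → y ∣ 3 → r ∣ g → r ∣ 3 := fun e hy hg => by
    refine dvd_trans ?_ hy
    rw [← e]
    exact dvd_add (h.mul_left _) (hg.mul_left _)
  fin_cases s
  · exact key (bez_0 x) (by norm_num) (by rw [← G_0]; exact hs)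
  · exact key (bez_1 x) (by norm_num) (by rw [← G_1]; exact hs)
  · exact key (bez_2 x) (by norm_num) (by rw [← G_2]; exact hs)
  · exact key (bez_3 x) (by norm_num) (by rw [← G_3]; exact hs)
  · exact key (bez_4 x) (by norm_num) (by rw [← G_4]; exact hs)
  · exact key (bez_5 x) (by norm_num) (by rw [← G_5]; exact hs)
  · exact key (bez_6 x) (by norm_num) (by rw [← G_6]; exact hs)
  · exact key (bez_7 x) (by norm_num) (by rw [← G_7]; exact hs)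

end Cfsg.Agent.H719.TE6_9
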