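import Cfsg.Agent.H129.WData

/-!
# Data of a torus of type E7 (helper719): f(x) = -1 + x ^ 7, Phi(x) = 1 + x + x ^ 2 + x ^ 3 + x ^ 4 + x ^ 5 + x ^ 6

Generated by a script; the word of `w` is 0 2 3 4 5 6.
-/

set_option autoImplicit false
set_option maxRecDepth 4000

namespace Cfsg.Agent.H719.TE7_7

open Cfsg.Agent.H129.TorusTw Cfsg.Agent.H129.WData Cfsg.Agent.ChevalleyStructure.CoxeterGeomTypes
open Cfsg.Lie Cfsg.Lie.ChevalleyDatum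

/-- the Cartan matrix -/
def Am : Mat 7 := ![![2, 0, -1, 0, 0, 0, 0],
    ![0, 2, 0, -1, 0, 0, 0],
    ![-1, 0, 2, -1, 0, 0, 0],
    ![0, -1, -1, 2, -1, 0, 0],
    ![0, 0, 0, -1, 2, -1, 0],
    ![0, 0, 0, 0, -1, 2, -1],
    ![0, 0, 0, 0, 0, -1, 2]]

/-- the partial products -/
def chain : List (Fin 7 × Mat 7) := [
    (0, ![![0, 0, 1, 0, 0, 0, 0],
      ![1, 1, 1, 1, 0, 0, 0],
      ![0, 0, 0, 1, 0, 0, 0],
      ![0, 0, 0, 0, 1, 0, 0],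
      ![0, 0, 0, 0, 0, 1, 0],
      ![0, 0, 0, 0, 0, 0, 1],
      ![-1, 0, -1, -1, -1, -1, -1]]),
    (2, ![![1, 0, 1, 0, 0, 0, 0],
      ![0, 1, 1, 1, 0, 0, 0],
      ![0, 0, 0, 1, 0, 0, 0],
      ![0, 0, 0, 0, 1, 0, 0],
      ![0, 0, 0, 0, 0, 1, 0],
      ![0, 0, 0, 0, 0, 0, 1],
      ![0, 0, -1, -1, -1, -1, -1]]),
    (3, ![![1, 0, 0, 0, 0, 0, 0],
      ![0, 1, 0, 1, 0, 0, 0],
      ![0, 0, 1, 1, 0, 0, 0],
      ![0, 0, 0, 0, 1, 0, 0],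
      ![0, 0, 0, 0, 0, 1, 0],
      ![0, 0, 0, 0, 0, 0, 1],
      ![0, 0, 0, -1, -1, -1, -1]]),
    (4, ![![1, 0, 0, 0, 0, 0, 0],
      ![0, 1, 0, 0, 0, 0, 0],
      ![0, 0, 1, 0, 0, 0, 0],
      ![0, 0, 0, 1, 1, 0, 0],
      ![0, 0, 0, 0, 0, 1, 0],
      ![0, 0, 0, 0, 0, 0, 1],
      ![0, 0, 0, 0, -1, -1, -1]]),
    (5, ![![1, 0, 0, 0, 0, 0, 0],
      ![0, 1, 0, 0, 0, 0, 0],
      ![0, 0, 1, 0, 0, 0, 0],
      ![0, 0, 0, 1, 0, 0, 0],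
      ![0, 0, 0, 0, 1, 1, 0],
      ![0, 0, 0, 0, 0, 0, 1],
      ![0, 0, 0, 0, 0, -1, -1]]),
    (6, ![![1, 0, 0, 0, 0, 0, 0],
      ![0, 1, 0, 0, 0, 0, 0],
      ![0, 0, 1, 0, 0, 0, 0],
      ![0, 0, 0, 1, 0, 0, 0],
      ![0, 0, 0, 0, 1, 0, 0],
      ![0, 0, 0, 0, 0, 1, 1],
      ![0, 0, 0, 0, 0, 0, -1]])]

/-- the matrix of `θ` -/
def Th : Mat 7 := ![![0, 0, 1, 0, 0, 0, 0],
    ![1, 1, 1, 1, 0, 0, 0],
    ![0, 0, 0, 1, 0, 0, 0],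
    ![0, 0, 0, 0, 1, 0, 0],
    ![0, 0, 0, 0, 0, 1, 0],
    ![0, 0, 0, 0, 0, 0, 1],
    ![-1, 0, -1, -1, -1, -1, -1]]

/-- the basis -/
def V : Mat 7 := ![![-1, -1, -2, -3, -3, -2, -1],
    ![0, -1, -1, -2, -2, -2, -1],
    ![0, -1, 0, -1, -1, -1, -1],
    ![0, -1, 0, 0, 0, 0, 0],
    ![-1, -1, -1, -1, 0, 0, 0],
    ![-1, -1, -2, -2, -1, 0, 0],
    ![-1, -1, -2, -3, -2, -1, 0]]

/-- the coordinates -/
def B : Mat 7 := ![![-1, 1, 0, 0, -1, 1, 0],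
    ![0, 0, 0, -1, 0, 0, 0],
    ![0, -1, 1, 0, 0, -1, 1],
    ![1, 0, -1, 1, 0, 0, -1],
    ![-1, 1, 0, -1, 1, 0, 0],
    ![0, -1, 1, 0, -1, 1, 0],
    ![0, 0, -1, 1, 0, -1, 1]]

/-- the polynomial -/
def c : Fin 7 → ℤ := ![-1, 0, 0, 0, 0, 0, 0]

/-- the representatives of the orbits of `θ` on the roots -/
def R : Fin 18 → Fin 7 → ℤ := ![![-1, -2, -2, -3, -3, -2, -1],
    ![-1, -1, -2, -3, -3, -2, -1],
    ![-1, -1, -2, -2, -2, -1, 0],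
    ![-1, -1, -1, -1, -1, 0, 0],
    ![0, -1, -1, -2, -1, -1, -1],
    ![-1, -1, -1, -2, -2, -1, -1],
    ![0, 0, 0, 0, 1, 0, 0],
    ![0, 0, 1, 1, 0, 0, 0],
    ![-1, 0, -1, -1, -1, 0, 0],
    ![1, 0, 1, 1, 1, 0, 0],
    ![0, 0, -1, -1, 0, 0, 0],
    ![0, 0, 0, 0, -1, 0, 0],
    ![1, 1, 2, 3, 3, 2, 1],
    ![1, 1, 1, 1, 1, 0, 0],
    ![0, 1, 1, 2, 1, 1, 1],
    ![1, 1, 2, 2, 2, 1, 0],
    ![1, 1, 1, 2, 2, 1, 1],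
    ![1, 2, 2, 3, 3, 2, 1]]

/-- the values of the functional on the representatives -/
def G : Fin 18 → Fin 7 → ℤ := ![![1, 0, 0, 1, 0, 0, 0],
    ![1, 0, 0, 0, 0, 0, 0],
    ![1, 0, -1, 1, 0, 0, 0],
    ![1, -1, 0, 1, 0, 0, 0],
    ![-1, 1, 1, -1, 0, 1, 0],
    ![1, -1, 1, 0, 0, 0, 0],
    ![-1, 1, 0, -1, 1, 0, 0],
    ![1, -1, 0, 1, 0, -1, 0],
    ![1, -1, 0, 0, 0, 0, 0],
    ![-1, 1, 0, 0, 0, 0, 0],
    ![-1, 1, 0, -1, 0, 1, 0],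
    ![1, -1, 0, 1, -1, 0, 0],
    ![-1, 0, 0, 0, 0, 0, 0],
    ![-1, 1, 0, -1, 0, 0, 0],
    ![1, -1, -1, 1, 0, -1, 0],
    ![-1, 0, 1, -1, 0, 0, 0],
    ![-1, 1, -1, 0, 0, 0, 0],
    ![-1, 0, 0, -1, 0, 0, 0]]

/-- predecessor -/
def prv (r : ℕ) : ℕ := Nat.mod (Nat.shiftRight 0x777d7c007a797800706e6d6a68006564635a00575554535150004e3e3c0035301b76757400716f6c6b69665c5b59565261605f005d4c4b4a494746004342403d3b3a0037363433323120001e1d1c2b27242221171412110e0c00090807624d4800413f2f002d2c2a29282600231a1918001513100f0d0005040300010006 (8 * r)) 256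

/-- depth -/
def dep (r : ℕ) : ℕ := Nat.mod (Nat.shiftRight 0x40506000102030001020606050003010504000502040604020004030400030604010203000604050103050203010603050104000502050106060200030102020103000206060105020500040105030601030205030105040600030201040603000403040002040604020500040501030005060602010003020100060504 (8 * r)) 256

theorem hA : ∀ i j, Am i j = cartanOf chevE7 7 i j := by decide +kernel

theorem chainOK : ChainOK Am chain := by decide +kernel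

theorem hd_eq : hd chain = Th := rfl

theorem cycOK : CycOK 7 Th V B c := by decide +kernel

theorem rootOK : RootOK chevE7 7 Th R prv dep := by decide +kernel

theorem coefOK : ∀ s i, ∑ j, R s j * B j i = G s i := by decide +kernel

theorem fN_eq (x : ℤ) : fN c x = -1 + x ^ 7 := by
  unfold fN c
  simp [Fin.sum_univ_succ]
  try ring

theorem G_0 (x : ℤ) : Gq B x (R 0) = 1 + x ^ 3 := by
  rw [Gq_coef B x (R 0) (G 0) (coefOK 0)]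
  unfold G
  simp [Fin.sum_univ_succ]
  try ring

theorem bez_0 (x : ℤ) : (1) * (1 + x + x ^ 2 + x ^ 3 + x ^ 4 + x ^ 5 + x ^ 6) + (-x - x ^ 2 - x ^ 3) * (1 + x ^ 3) = 1 := by
  ring

theorem G_1 (x : ℤ) : Gq B x (R 1) = 1 := by
  rw [Gq_coef B x (R 1) (G 1) (coefOK 1)]
  unfold G
  simp [Fin.sum_univ_succ]
  try ring

theorem bez_1 (x : ℤ) : (0) * (1 + x + x ^ 2 + x ^ 3 + x ^ 4 + x ^ 5 + x ^ 6) + (1) * (1) = 1 := by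
  ring

theorem G_2 (x : ℤ) : Gq B x (R 2) = 1 - x ^ 2 + x ^ 3 := by
  rw [Gq_coef B x (R 2) (G 2) (coefOK 2)]
  unfold G
  simp [Fin.sum_univ_succ]
  try ring

theorem bez_2 (x : ℤ) : (1 - 2 * x + x ^ 2) * (1 + x + x ^ 2 + x ^ 3 + x ^ 4 + x ^ 5 + x ^ 6) + (1 + x + x ^ 2 - x ^ 5) * (1 - x ^ 2 + x ^ 3) = 2 := by
  ring

theorem G_3 (x : ℤ) : Gq B x (R 3) = 1 - x + x ^ 3 := by
  rw [Gq_coef B x (R 3) (G 3) (coefOK 3)]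
  unfold G
  simp [Fin.sum_univ_succ]
  try ring

theorem bez_3 (x : ℤ) : (1 - x - x ^ 2) * (1 + x + x ^ 2 + x ^ 3 + x ^ 4 + x ^ 5 + x ^ 6) + (1 + x + 2 * x ^ 2 + 2 * x ^ 3 + 2 * x ^ 4 + x ^ 5) * (1 - x + x ^ 3) = 2 := by
  ring

theorem G_4 (x : ℤ) : Gq B x (R 4) = -1 + x + x ^ 2 - x ^ 3 + x ^ 5 := by
  rw [Gq_coef B x (R 4) (G 4) (coefOK 4)]
  unfold G
  simp [Fin.sum_univ_succ]
  try ring

theorem bez_4 (x : ℤ) : (x ^ 3) * (1 + x + x ^ 2 + x ^ 3 + x ^ 4 + x ^ 5 + x ^ 6) + (-1 - x - 2 * x ^ 2 - x ^ 3 - x ^ 4) * (-1 + x + x ^ 2 - x ^ 3 + x ^ 5) = 1 := by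
  ring

theorem G_5 (x : ℤ) : Gq B x (R 5) = 1 - x + x ^ 2 := by
  rw [Gq_coef B x (R 5) (G 5) (coefOK 5)]
  unfold G
  simp [Fin.sum_univ_succ]
  try ring

theorem bez_5 (x : ℤ) : (1) * (1 + x + x ^ 2 + x ^ 3 + x ^ 4 + x ^ 5 + x ^ 6) + (-x - 2 * x ^ 2 - 2 * x ^ 3 - x ^ 4) * (1 - x + x ^ 2) = 1 := by
  ring

theorem G_6 (x : ℤ) : Gq B x (R 6) = -1 + x - x ^ 3 + x ^ 4 := by
  rw [Gq_coef B x (R 6) (G 6) (coefOK 6)]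
  unfold G
  simp [Fin.sum_univ_succ]
  try ring

theorem bez_6 (x : ℤ) : (4 - 3 * x ^ 3) * (1 + x + x ^ 2 + x ^ 3 + x ^ 4 + x ^ 5 + x ^ 6) + (-3 + x + 5 * x ^ 2 + 9 * x ^ 3 + 6 * x ^ 4 + 3 * x ^ 5) * (-1 + x - x ^ 3 + x ^ 4) = 7 := by
  ring

theorem G_7 (x : ℤ) : Gq B x (R 7) = 1 - x + x ^ 3 - x ^ 5 := by
  rw [Gq_coef B x (R 7) (G 7) (coefOK 7)]
  unfold G
  simp [Fin.sum_univ_succ]
  try ring

theorem bez_7 (x : ℤ) : (5 - 7 * x ^ 2 - 2 * x ^ 3 + 5 * x ^ 4) * (1 + x + x ^ 2 + x ^ 3 + x ^ 4 + x ^ 5 + x ^ 6) + (2 - 3 * x - x ^ 2 + x ^ 3 + 3 * x ^ 4 + 5 * x ^ 5) * (1 - x + x ^ 3 - x ^ 5) = 7 := by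
  ring

theorem G_8 (x : ℤ) : Gq B x (R 8) = 1 - x := by
  rw [Gq_coef B x (R 8) (G 8) (coefOK 8)]
  unfold G
  simp [Fin.sum_univ_succ]
  try ring

theorem bez_8 (x : ℤ) : (1) * (1 + x + x ^ 2 + x ^ 3 + x ^ 4 + x ^ 5 + x ^ 6) + (6 + 5 * x + 4 * x ^ 2 + 3 * x ^ 3 + 2 * x ^ 4 + x ^ 5) * (1 - x) = 7 := by
  ring

theorem G_9 (x : ℤ) : Gq B x (R 9) = -1 + x := by
  rw [Gq_coef B x (R 9) (G 9) (coefOK 9)]
  unfold G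
  simp [Fin.sum_univ_succ]
  try ring

theorem bez_9 (x : ℤ) : (1) * (1 + x + x ^ 2 + x ^ 3 + x ^ 4 + x ^ 5 + x ^ 6) + (-6 - 5 * x - 4 * x ^ 2 - 3 * x ^ 3 - 2 * x ^ 4 - x ^ 5) * (-1 + x) = 7 := by
  ring

theorem G_10 (x : ℤ) : Gq B x (R 10) = -1 + x - x ^ 3 + x ^ 5 := by
  rw [Gq_coef B x (R 10) (G 10) (coefOK 10)]
  unfold G
  simp [Fin.sum_univ_succ]
  try ring

theorem bez_10 (x : ℤ) : (5 - 7 * x ^ 2 - 2 * x ^ 3 + 5 * x ^ 4) * (1 + x + x ^ 2 + x ^ 3 + x ^ 4 + x ^ 5 + x ^ 6) + (-2 + 3 * x + x ^ 2 - x ^ 3 - 3 * x ^ 4 - 5 * x ^ 5) * (-1 + x - x ^ 3 + x ^ 5) = 7 := by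
  ring

theorem G_11 (x : ℤ) : Gq B x (R 11) = 1 - x + x ^ 3 - x ^ 4 := by
  rw [Gq_coef B x (R 11) (G 11) (coefOK 11)]
  unfold G
  simp [Fin.sum_univ_succ]
  try ring

theorem bez_11 (x : ℤ) : (4 - 3 * x ^ 3) * (1 + x + x ^ 2 + x ^ 3 + x ^ 4 + x ^ 5 + x ^ 6) + (3 - x - 5 * x ^ 2 - 9 * x ^ 3 - 6 * x ^ 4 - 3 * x ^ 5) * (1 - x + x ^ 3 - x ^ 4) = 7 := by
  ring

theorem G_12 (x : ℤ) : Gq B x (R 12) = -1 := by
  rw [Gq_coef B x (R 12) (G 12) (coefOK 12)]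
  unfold G
  simp [Fin.sum_univ_succ]
  try ring

theorem bez_12 (x : ℤ) : (0) * (1 + x + x ^ 2 + x ^ 3 + x ^ 4 + x ^ 5 + x ^ 6) + (-1) * (-1) = 1 := by
  ring

theorem G_13 (x : ℤ) : Gq B x (R 13) = -1 + x - x ^ 3 := by
  rw [Gq_coef B x (R 13) (G 13) (coefOK 13)]
  unfold G
  simp [Fin.sum_univ_succ]
  try ring

theorem bez_13 (x : ℤ) : (1 - x - x ^ 2) * (1 + x + x ^ 2 + x ^ 3 + x ^ 4 + x ^ 5 + x ^ 6) + (-1 - x - 2 * x ^ 2 - 2 * x ^ 3 - 2 * x ^ 4 - x ^ 5) * (-1 + x - x ^ 3) = 2 := by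
  ring

theorem G_14 (x : ℤ) : Gq B x (R 14) = 1 - x - x ^ 2 + x ^ 3 - x ^ 5 := by
  rw [Gq_coef B x (R 14) (G 14) (coefOK 14)]
  unfold G
  simp [Fin.sum_univ_succ]
  try ring

theorem bez_14 (x : ℤ) : (x ^ 3) * (1 + x + x ^ 2 + x ^ 3 + x ^ 4 + x ^ 5 + x ^ 6) + (1 + x + 2 * x ^ 2 + x ^ 3 + x ^ 4) * (1 - x - x ^ 2 + x ^ 3 - x ^ 5) = 1 := by
  ring

theorem G_15 (x : ℤ) : Gq B x (R 15) = -1 + x ^ 2 - x ^ 3 := by
  rw [Gq_coef B x (R 15) (G 15) (coefOK 15)]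
  unfold G
  simp [Fin.sum_univ_succ]
  try ring

theorem bez_15 (x : ℤ) : (1 - 2 * x + x ^ 2) * (1 + x + x ^ 2 + x ^ 3 + x ^ 4 + x ^ 5 + x ^ 6) + (-1 - x - x ^ 2 + x ^ 5) * (-1 + x ^ 2 - x ^ 3) = 2 := by
  ring

theorem G_16 (x : ℤ) : Gq B x (R 16) = -1 + x - x ^ 2 := by
  rw [Gq_coef B x (R 16) (G 16) (coefOK 16)]
  unfold G
  simp [Fin.sum_univ_succ]
  try ring

theorem bez_16 (x : ℤ) : (1) * (1 + x + x ^ 2 + x ^ 3 + x ^ 4 + x ^ 5 + x ^ 6) + (x + 2 * x ^ 2 + 2 * x ^ 3 + x ^ 4) * (-1 + x - x ^ 2) = 1 := by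
  ring

theorem G_17 (x : ℤ) : Gq B x (R 17) = -1 - x ^ 3 := by
  rw [Gq_coef B x (R 17) (G 17) (coefOK 17)]
  unfold G
  simp [Fin.sum_univ_succ]
  try ring

theorem bez_17 (x : ℤ) : (1) * (1 + x + x ^ 2 + x ^ 3 + x ^ 4 + x ^ 5 + x ^ 6) + (x + x ^ 2 + x ^ 3) * (-1 - x ^ 3) = 1 := by
  ring

/-- Common divisors of `Φ(x)` and the value of `Gq` on a representative. -/
theorem dvd_of_G {x r : ℤ} (h : r ∣ 1 + x + x ^ 2 + x ^ 3 + x ^ 4 + x ^ 5 + x ^ 6) (s : Fin 18) (hs : r ∣ Gq B x (R s)) :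
    r ∣ 14 := by
  have key : ∀ {a b g y : ℤ}, a * (1 + x + x ^ 2 + x ^ 3 + x ^ 4 + x ^ 5 + x ^ 6) + b * g = y → y ∣ 14 → r ∣ g → r ∣ 14 := fun e hy hg => by
    refine dvd_trans ?_ hy
    rw [← e]
    exact dvd_add (h.mul_left _) (hg.mul_left _)
  fin_cases s
  · exact key (bez_0 x) (by norm_num) (by rw [← G_0]; exact hs)
  · exact key (bez_1 x) (by norm_num) (by rw [← G_1]; exact hs)
  · exact key (bez_2 x) (by norm_num) (by rw [← G_2]; exact hs)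
  · exact key (bez_3 x) (by norm_num) (by rw [← G_3]; exact hs)
  · exact key (bez_4 x) (by norm_num) (by rw [← G_4]; exact hs)
  · exact key (bez_5 x) (by norm_num) (by rw [← G_5]; exact hs)
  · exact key (bez_6 x) (by norm_num) (by rw [← G_6]; exact hs)
  · exact key (bez_7 x) (by norm_num) (by rw [← G_7]; exact hs)
  · exact key (bez_8 x) (by norm_num) (by rw [← G_8]; exact hs)
  · exact key (bez_9 x) (by norm_num) (by rw [← G_9]; exact hs)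
  · exact key (bez_10 x) (by norm_num) (by rw [← G_10]; exact hs)
  · exact key (bez_11 x) (by norm_num) (by rw [← G_11]; exact hs)
  · exact key (bez_12 x) (by norm_num) (by rw [← G_12]; exact hs)
  · exact key (bez_13 x) (by norm_num) (by rw [← G_13]; exact hs)
  · exact key (bez_14 x) (by norm_num) (by rw [← G_14]; exact hs)
  · exact key (bez_15 x) (by norm_num) (by rw [← G_15]; exact hs)
  · exact key (bez_16 x) (by norm_num) (by rw [← G_16]; exact hs)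
  · exact key (bez_17 x) (by norm_num) (by rw [← G_17]; exact hs)

end Cfsg.Agent.H719.TE7_7
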