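import Cfsg.Agent.H129.WData

/-!
# Data of a torus of type E8 (helper719): f(x) = 1 - x ^ 4 + x ^ 8, Phi(x) = 1 - x ^ 4 + x ^ 8

Generated by a script; the word of `w` is 7 4 1 3 1 5 2 6 3 0.
-/

set_option autoImplicit false
set_option maxRecDepth 4000

namespace Cfsg.Agent.H719.TE8_24

open Cfsg.Agent.H129.TorusTw Cfsg.Agent.H129.WData Cfsg.Agent.ChevalleyStructure.CoxeterGeomTypes
open Cfsg.Lie Cfsg.Lie.ChevalleyDatum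

/-- the Cartan matrix -/
def Am : Mat 8 := ![![2, 0, -1, 0, 0, 0, 0, 0],
    ![0, 2, 0, -1, 0, 0, 0, 0],
    ![-1, 0, 2, -1, 0, 0, 0, 0],
    ![0, -1, -1, 2, -1, 0, 0, 0],
    ![0, 0, 0, -1, 2, -1, 0, 0],
    ![0, 0, 0, 0, -1, 2, -1, 0],
    ![0, 0, 0, 0, 0, -1, 2, -1],
    ![0, 0, 0, 0, 0, 0, -1, 2]]

/-- the partial products -/
def chain : List (Fin 8 × Mat 8) := [
    (7, ![![-1, -1, -1, -1, -1, 0, 0, 0],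
      ![0, 0, 1, 0, 0, 0, 0, 0],
      ![1, 0, 1, 1, 1, 0, 0, 0],
      ![0, 0, -1, -1, -1, 0, 0, 0],
      ![0, 1, 1, 2, 2, 1, 0, 0],
      ![0, 0, 0, 0, 0, 0, 1, 1],
      ![0, 0, 0, 0, -1, -1, -1, -1],
      ![0, 0, 0, 0, 1, 1, 1, 0]]),
    (4, ![![-1, -1, -1, -1, -1, 0, 0, 0],
      ![0, 0, 1, 0, 0, 0, 0, 0],
      ![1, 0, 1, 1, 1, 0, 0, 0],
      ![0, 0, -1, -1, -1, 0, 0, 0],
      ![0, 1, 1, 2, 2, 1, 0, 0],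
      ![0, 0, 0, 0, 0, 0, 1, 0],
      ![0, 0, 0, 0, -1, -1, -1, 0],
      ![0, 0, 0, 0, 1, 1, 1, 1]]),
    (1, ![![-1, -1, -1, -1, 0, 0, 0, 0],
      ![0, 0, 1, 0, 0, 0, 0, 0],
      ![1, 0, 1, 1, 0, 0, 0, 0],
      ![0, 0, -1, -1, 0, 0, 0, 0],
      ![0, 1, 1, 2, 1, 1, 0, 0],
      ![0, 0, 0, 0, 0, 0, 1, 0],
      ![0, 0, 0, 0, 0, -1, -1, 0],
      ![0, 0, 0, 0, 0, 1, 1, 1]]),
    (3, ![![-1, 0, -1, -1, 0, 0, 0, 0],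
      ![0, 0, 1, 0, 0, 0, 0, 0],
      ![1, 1, 1, 1, 0, 0, 0, 0],
      ![0, -1, -1, -1, 0, 0, 0, 0],
      ![0, 1, 1, 2, 1, 1, 0, 0],
      ![0, 0, 0, 0, 0, 0, 1, 0],
      ![0, 0, 0, 0, 0, -1, -1, 0],
      ![0, 0, 0, 0, 0, 1, 1, 1]]),
    (1, ![![-1, 0, -1, 0, 0, 0, 0, 0],
      ![0, 0, 1, 1, 0, 0, 0, 0],
      ![1, 1, 1, 1, 0, 0, 0, 0],
      ![0, -1, -1, -1, 0, 0, 0, 0],
      ![0, 1, 1, 1, 1, 1, 0, 0],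
      ![0, 0, 0, 0, 0, 0, 1, 0],
      ![0, 0, 0, 0, 0, -1, -1, 0],
      ![0, 0, 0, 0, 0, 1, 1, 1]]),
    (5, ![![-1, 0, -1, 0, 0, 0, 0, 0],
      ![0, 1, 1, 1, 0, 0, 0, 0],
      ![1, 0, 1, 1, 0, 0, 0, 0],
      ![0, 0, -1, -1, 0, 0, 0, 0],
      ![0, 0, 1, 1, 1, 1, 0, 0],
      ![0, 0, 0, 0, 0, 0, 1, 0],
      ![0, 0, 0, 0, 0, -1, -1, 0],
      ![0, 0, 0, 0, 0, 1, 1, 1]]),
    (2, ![![-1, 0, -1, 0, 0, 0, 0, 0],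
      ![0, 1, 1, 1, 0, 0, 0, 0],
      ![1, 0, 1, 1, 0, 0, 0, 0],
      ![0, 0, -1, -1, 0, 0, 0, 0],
      ![0, 0, 1, 1, 1, 0, 0, 0],
      ![0, 0, 0, 0, 0, 1, 1, 0],
      ![0, 0, 0, 0, 0, 0, -1, 0],
      ![0, 0, 0, 0, 0, 0, 1, 1]]),
    (6, ![![-1, 0, 0, 0, 0, 0, 0, 0],
      ![0, 1, 0, 1, 0, 0, 0, 0],
      ![1, 0, 1, 1, 0, 0, 0, 0],
      ![0, 0, 0, -1, 0, 0, 0, 0],
      ![0, 0, 0, 1, 1, 0, 0, 0],
      ![0, 0, 0, 0, 0, 1, 1, 0],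
      ![0, 0, 0, 0, 0, 0, -1, 0],
      ![0, 0, 0, 0, 0, 0, 1, 1]]),
    (3, ![![-1, 0, 0, 0, 0, 0, 0, 0],
      ![0, 1, 0, 1, 0, 0, 0, 0],
      ![1, 0, 1, 1, 0, 0, 0, 0],
      ![0, 0, 0, -1, 0, 0, 0, 0],
      ![0, 0, 0, 1, 1, 0, 0, 0],
      ![0, 0, 0, 0, 0, 1, 0, 0],
      ![0, 0, 0, 0, 0, 0, 1, 0],
      ![0, 0, 0, 0, 0, 0, 0, 1]]),
    (0, ![![-1, 0, 0, 0, 0, 0, 0, 0],
      ![0, 1, 0, 0, 0, 0, 0, 0],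
      ![1, 0, 1, 0, 0, 0, 0, 0],
      ![0, 0, 0, 1, 0, 0, 0, 0],
      ![0, 0, 0, 0, 1, 0, 0, 0],
      ![0, 0, 0, 0, 0, 1, 0, 0],
      ![0, 0, 0, 0, 0, 0, 1, 0],
      ![0, 0, 0, 0, 0, 0, 0, 1]])]

/-- the matrix of `θ` -/
def Th : Mat 8 := ![![-1, -1, -1, -1, -1, 0, 0, 0],
    ![0, 0, 1, 0, 0, 0, 0, 0],
    ![1, 0, 1, 1, 1, 0, 0, 0],
    ![0, 0, -1, -1, -1, 0, 0, 0],
    ![0, 1, 1, 2, 2, 1, 0, 0],
    ![0, 0, 0, 0, 0, 0, 1, 1],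
    ![0, 0, 0, 0, -1, -1, -1, -1],
    ![0, 0, 0, 0, 1, 1, 1, 0]]

/-- the basis -/
def V : Mat 8 := ![![-2, -3, -4, -6, -5, -4, -3, -2],
    ![-2, -3, -4, -6, -5, -4, -3, -1],
    ![-2, -3, -4, -6, -4, -3, -2, -1],
    ![-2, -2, -3, -4, -3, -3, -2, -1],
    ![-1, -1, -2, -3, -2, -2, -2, -1],
    ![-1, -1, -1, -2, -1, -1, -1, 0],
    ![0, 0, 0, 0, 1, 0, 0, 0],
    ![0, 1, 1, 2, 2, 1, 0, 0]]

/-- the coordinates -/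
def B : Mat 8 := ![![0, 1, 0, -1, 0, -1, 1, 0],
    ![-1, -1, 0, 1, 2, 0, -1, -1],
    ![1, -1, -1, 0, 0, 2, 0, -1],
    ![0, 1, 0, 0, -1, -1, 0, 1],
    ![0, 0, 0, 0, 0, 0, 1, 0],
    ![0, 0, 1, -1, 0, 0, -1, 1],
    ![0, -1, 0, 1, 0, 0, 0, -1],
    ![-1, 1, 0, 0, 0, 0, 0, 0]]

/-- the polynomial -/
def c : Fin 8 → ℤ := ![1, 0, 0, 0, -1, 0, 0, 0]

/-- the representatives of the orbits of `θ` on the roots -/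
def R : Fin 10 → Fin 8 → ℤ := ![![-2, -3, -4, -6, -5, -4, -3, -2],
    ![1, 2, 2, 4, 4, 3, 2, 1],
    ![0, 1, 1, 2, 2, 1, 1, 1],
    ![-1, -2, -2, -4, -3, -2, -2, -1],
    ![-1, -1, -1, -2, -2, -2, -2, -1],
    ![0, 0, 0, 0, 1, 1, 1, 1],
    ![0, -1, -1, -2, -1, -1, -1, -1],
    ![-1, -1, -2, -2, -1, -1, 0, 0],
    ![0, 0, 0, -1, -1, -1, -1, -1],
    ![0, 0, 0, 0, 0, 0, 0, 1]]

/-- the values of the functional on the representatives -/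
def G : Fin 10 → Fin 8 → ℤ := ![![1, 0, 0, 0, 0, 0, 0, 0],
    ![-1, 0, 1, 0, 0, -1, 0, 1],
    ![-1, 0, 0, 1, 0, 0, 0, 0],
    ![1, 0, 0, -1, 0, 1, 0, 0],
    ![1, 0, -1, 0, 0, 1, 0, 0],
    ![-1, 0, 1, 0, 0, 0, 0, 0],
    ![1, 0, 0, -1, 0, 0, 1, 0],
    ![-1, 0, 1, 1, 0, -1, 0, 0],
    ![1, -1, -1, 0, 1, 1, 0, -1],
    ![-1, 1, 0, 0, 0, 0, 0, 0]]

/-- predecessor -/
def prv (r : ℕ) : ℕ := Nat.mod (Nat.shiftRight 0xedefecdfeee1e0eae8dcebdedbdddae6d3e9d5d2d400e7cbc8cad7a09c9ed9d6d89fa19de3c0bcbee5e2e4bfc1bdd0ccce959794cfd1cd96c6c2c48a8c89c5c7c38b999b984d9ab9bbb887ba9388b6b2b400817eb5b7b38090928f4b9184868346854cabadaa6dac8da6a8a561a70078733fafb1ae7b7d007a7274413e40b07c7779488e4a4700624382454244a36aa96c696b5ea4605d5f6f3c3800716e703b3d39675c356837343655a2575456642c282a6663652b2d0059001e205b585a21231f322e300b0d0a31332f0c524e5017191651534f1825270008261b1d1a061c0915121411041307050f0e0110030000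 (8 * r)) 256

/-- depth -/
def dep (r : ℕ) : ℕ := Nat.mod (Nat.shiftRight 0xc0d0b0a0e02050304030f070a0a0104090609020900050c07050808080106060d080b020b041706100b080a08080703090507160e070c0a0c090b06050609110909070d03040e0d0f0b06080f0f0a07070001070c0d0602060904150e080d05030f04040805050e050c0e070410000117060a0a0a0b0b000c1717161616120b0d0c041013020011021111141010030f11011402091015120e120100130d0c1313160303141217030102100f011315150515121112171500160013020a1311150f13141416141704120b10170e17140112120d141414111300110c150e151215100d161613030f100f110e0216170100 (8 * r)) 256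

theorem hA : ∀ i j, Am i j = cartanOf chevE8 8 i j := by decide +kernel

theorem chainOK : ChainOK Am chain := by decide +kernel

theorem hd_eq : hd chain = Th := rfl

theorem cycOK : CycOK 8 Th V B c := by decide +kernel

theorem rootOK : RootOK chevE8 8 Th R prv dep := by decide +kernel

theorem coefOK : ∀ s i, ∑ j, R s j * B j i = G s i := by decide +kernel

theorem fN_eq (x : ℤ) : fN c x = 1 - x ^ 4 + x ^ 8 := by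
  unfold fN c
  simp [Fin.sum_univ_succ]
  try ring

theorem G_0 (x : ℤ) : Gq B x (R 0) = 1 := by
  rw [Gq_coef B x (R 0) (G 0) (coefOK 0)]
  unfold G
  simp [Fin.sum_univ_succ]
  try ring

theorem bez_0 (x : ℤ) : (0) * (1 - x ^ 4 + x ^ 8) + (1) * (1) = 1 := by
  ring

theorem G_1 (x : ℤ) : Gq B x (R 1) = -1 + x ^ 2 - x ^ 5 + x ^ 7 := by
  rw [Gq_coef B x (R 1) (G 1) (coefOK 1)]
  unfold G
  simp [Fin.sum_univ_succ]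
  try ring

theorem bez_1 (x : ℤ) : (1 - x ^ 3 + x ^ 4 + x ^ 5 - x ^ 6) * (1 - x ^ 4 + x ^ 8) + (-x ^ 3 - x ^ 6 + x ^ 7) * (-1 + x ^ 2 - x ^ 5 + x ^ 7) = 1 := by
  ring

theorem G_2 (x : ℤ) : Gq B x (R 2) = -1 + x ^ 3 := by
  rw [Gq_coef B x (R 2) (G 2) (coefOK 2)]
  unfold G
  simp [Fin.sum_univ_succ]
  try ring

theorem bez_2 (x : ℤ) : (1 + x) * (1 - x ^ 4 + x ^ 8) + (-1 + x - x ^ 3 - x ^ 5 - x ^ 6) * (-1 + x ^ 3) = 2 := by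
  ring

theorem G_3 (x : ℤ) : Gq B x (R 3) = 1 - x ^ 3 + x ^ 5 := by
  rw [Gq_coef B x (R 3) (G 3) (coefOK 3)]
  unfold G
  simp [Fin.sum_univ_succ]
  try ring

theorem bez_3 (x : ℤ) : (1 - 2 * x ^ 2 + x ^ 3 + 2 * x ^ 4) * (1 - x ^ 4 + x ^ 8) + (2 + 2 * x ^ 2 + x ^ 3 - x ^ 4 - x ^ 6 - 2 * x ^ 7) * (1 - x ^ 3 + x ^ 5) = 3 := by
  ring

theorem G_4 (x : ℤ) : Gq B x (R 4) = 1 - x ^ 2 + x ^ 5 := by
  rw [Gq_coef B x (R 4) (G 4) (coefOK 4)]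
  unfold G
  simp [Fin.sum_univ_succ]
  try ring

theorem bez_4 (x : ℤ) : (1 - x + 2 * x ^ 2 + 2 * x ^ 4) * (1 - x ^ 4 + x ^ 8) + (2 + x + x ^ 3 - x ^ 4 - 2 * x ^ 5 - 2 * x ^ 7) * (1 - x ^ 2 + x ^ 5) = 3 := by
  ring

theorem G_5 (x : ℤ) : Gq B x (R 5) = -1 + x ^ 2 := by
  rw [Gq_coef B x (R 5) (G 5) (coefOK 5)]
  unfold G
  simp [Fin.sum_univ_succ]
  try ring

theorem bez_5 (x : ℤ) : (1) * (1 - x ^ 4 + x ^ 8) + (-x ^ 4 - x ^ 6) * (-1 + x ^ 2) = 1 := by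
  ring

theorem G_6 (x : ℤ) : Gq B x (R 6) = 1 - x ^ 3 + x ^ 6 := by
  rw [Gq_coef B x (R 6) (G 6) (coefOK 6)]
  unfold G
  simp [Fin.sum_univ_succ]
  try ring

theorem bez_6 (x : ℤ) : (-x + x ^ 3 + x ^ 4) * (1 - x ^ 4 + x ^ 8) + (1 + x - x ^ 5 - x ^ 6) * (1 - x ^ 3 + x ^ 6) = 1 := by
  ring

theorem G_7 (x : ℤ) : Gq B x (R 7) = -1 + x ^ 2 + x ^ 3 - x ^ 5 := by
  rw [Gq_coef B x (R 7) (G 7) (coefOK 7)]
  unfold G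
  simp [Fin.sum_univ_succ]
  try ring

theorem bez_7 (x : ℤ) : (3 + 2 * x - 2 * x ^ 3 - x ^ 4) * (1 - x ^ 4 + x ^ 8) + (1 + 2 * x + x ^ 2 + x ^ 3 - x ^ 4 - x ^ 5 - 2 * x ^ 6 - x ^ 7) * (-1 + x ^ 2 + x ^ 3 - x ^ 5) = 2 := by
  ring

theorem G_8 (x : ℤ) : Gq B x (R 8) = 1 - x - x ^ 2 + x ^ 4 + x ^ 5 - x ^ 7 := by
  rw [Gq_coef B x (R 8) (G 8) (coefOK 8)]
  unfold G
  simp [Fin.sum_univ_succ]
  try ring

theorem bez_8 (x : ℤ) : (-1 + x + 2 * x ^ 2 + x ^ 3 - x ^ 5 - x ^ 6) * (1 - x ^ 4 + x ^ 8) + (2 + x + x ^ 2 + x ^ 3 - x ^ 4 - x ^ 5 - x ^ 6 - x ^ 7) * (1 - x - x ^ 2 + x ^ 4 + x ^ 5 - x ^ 7) = 1 := by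
  ring

theorem G_9 (x : ℤ) : Gq B x (R 9) = -1 + x := by
  rw [Gq_coef B x (R 9) (G 9) (coefOK 9)]
  unfold G
  simp [Fin.sum_univ_succ]
  try ring

theorem bez_9 (x : ℤ) : (1) * (1 - x ^ 4 + x ^ 8) + (-x ^ 4 - x ^ 5 - x ^ 6 - x ^ 7) * (-1 + x) = 1 := by
  ring

/-- Common divisors of `Φ(x)` and the value of `Gq` on a representative. -/
theorem dvd_of_G {x r : ℤ} (h : r ∣ 1 - x ^ 4 + x ^ 8) (s : Fin 10) (hs : r ∣ Gq B x (R s)) :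
    r ∣ 6 := by
  have key : ∀ {a b g y : ℤ}, a * (1 - x ^ 4 + x ^ 8) + b * g = y → y ∣ 6 → r ∣ g → r ∣ 6 := fun e hy hg => by
    refine dvd_trans ?_ hy
    rw [← e]
    exact dvd_add (h.mul_left _) (hg.mul_left _)
  fin_cases s
  · exact key (bez_0 x) (by norm_num) (by rw [← G_0]; exact hs)
  · exact key (bez_1 x) (by norm_num) (by rw [← G_1]; exact hs)
  · exact key (bez_2 x) (by norm_num) (by rw [← G_2]; exact hs)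
  · exact key (bez_3 x) (by norm_num) (by rw [← G_3]; exact hs)
  · exact key (bez_4 x) (by norm_num) (by rw [← G_4]; exact hs)
  · exact key (bez_5 x) (by norm_num) (by rw [← G_5]; exact hs)
  · exact key (bez_6 x) (by norm_num) (by rw [← G_6]; exact hs)
  · exact key (bez_7 x) (by norm_num) (by rw [← G_7]; exact hs)
  · exact key (bez_8 x) (by norm_num) (by rw [← G_8]; exact hs)
  · exact key (bez_9 x) (by norm_num) (by rw [← G_9]; exact hs)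

end Cfsg.Agent.H719.TE8_24
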