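import Cfsg.Agent.H129.WData

/-!
# Data of a torus of type E8 (helper719): f(x) = 1 + x - x ^ 3 - x ^ 4 - x ^ 5 + x ^ 7 + x ^ 8, Phi(x) = 1 + x - x ^ 3 - x ^ 4 - x ^ 5 + x ^ 7 + x ^ 8

Generated by a script; the word of `w` is 1 4 5 2 6 3 0 7.
-/

set_option autoImplicit false
set_option maxRecDepth 4000

namespace Cfsg.Agent.H719.TE8_30

open Cfsg.Agent.H129.TorusTw Cfsg.Agent.H129.WData Cfsg.Agent.ChevalleyStructure.CoxeterGeomTypes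
open Cfsg.Lie Cfsg.Lie.ChevalleyDatum

/-- the Cartan matrix -/
def Am : Mat 8 := ![![2, 0, -1, 0, 0, 0, 0, 0],
    ![0, 2, 0, -1, 0, 0, 0, 0],
    ![-1, 0, 2, -1, 0, 0, 0, 0],
    ![0, -1, -1, 2, -1, 0, 0, 0],
    ![0, 0, 0, -1, 2, -1, 0, 0],
    ![0, 0, 0, 0, -1, 2, -1, 0],
    ![0, 0, 0, 0, 0, -1, 2, -1],
    ![0, 0, 0, 0, 0, 0, -1, 2]]

/-- the partial products -/
def chain : List (Fin 8 × Mat 8) := [
    (1, ![![-1, 0, -1, 0, 0, 0, 0, 0],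
      ![0, 0, 1, 1, 1, 0, 0, 0],
      ![1, 1, 1, 1, 1, 0, 0, 0],
      ![0, -1, -1, -1, -1, 0, 0, 0],
      ![0, 1, 1, 1, 1, 1, 0, 0],
      ![0, 0, 0, 0, 0, 0, 1, 0],
      ![0, 0, 0, 0, 0, 0, 0, 1],
      ![0, 0, 0, 0, -1, -1, -1, -1]]),
    (4, ![![-1, 0, -1, 0, 0, 0, 0, 0],
      ![0, 1, 1, 1, 1, 0, 0, 0],
      ![1, 0, 1, 1, 1, 0, 0, 0],
      ![0, 0, -1, -1, -1, 0, 0, 0],
      ![0, 0, 1, 1, 1, 1, 0, 0],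
      ![0, 0, 0, 0, 0, 0, 1, 0],
      ![0, 0, 0, 0, 0, 0, 0, 1],
      ![0, 0, 0, 0, -1, -1, -1, -1]]),
    (5, ![![-1, 0, -1, 0, 0, 0, 0, 0],
      ![0, 1, 1, 1, 0, 0, 0, 0],
      ![1, 0, 1, 1, 0, 0, 0, 0],
      ![0, 0, -1, -1, 0, 0, 0, 0],
      ![0, 0, 1, 1, 1, 1, 0, 0],
      ![0, 0, 0, 0, 0, 0, 1, 0],
      ![0, 0, 0, 0, 0, 0, 0, 1],
      ![0, 0, 0, 0, 0, -1, -1, -1]]),
    (2, ![![-1, 0, -1, 0, 0, 0, 0, 0],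
      ![0, 1, 1, 1, 0, 0, 0, 0],
      ![1, 0, 1, 1, 0, 0, 0, 0],
      ![0, 0, -1, -1, 0, 0, 0, 0],
      ![0, 0, 1, 1, 1, 0, 0, 0],
      ![0, 0, 0, 0, 0, 1, 1, 0],
      ![0, 0, 0, 0, 0, 0, 0, 1],
      ![0, 0, 0, 0, 0, 0, -1, -1]]),
    (6, ![![-1, 0, 0, 0, 0, 0, 0, 0],
      ![0, 1, 0, 1, 0, 0, 0, 0],
      ![1, 0, 1, 1, 0, 0, 0, 0],
      ![0, 0, 0, -1, 0, 0, 0, 0],
      ![0, 0, 0, 1, 1, 0, 0, 0],
      ![0, 0, 0, 0, 0, 1, 1, 0],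
      ![0, 0, 0, 0, 0, 0, 0, 1],
      ![0, 0, 0, 0, 0, 0, -1, -1]]),
    (3, ![![-1, 0, 0, 0, 0, 0, 0, 0],
      ![0, 1, 0, 1, 0, 0, 0, 0],
      ![1, 0, 1, 1, 0, 0, 0, 0],
      ![0, 0, 0, -1, 0, 0, 0, 0],
      ![0, 0, 0, 1, 1, 0, 0, 0],
      ![0, 0, 0, 0, 0, 1, 0, 0],
      ![0, 0, 0, 0, 0, 0, 1, 1],
      ![0, 0, 0, 0, 0, 0, 0, -1]]),
    (0, ![![-1, 0, 0, 0, 0, 0, 0, 0],
      ![0, 1, 0, 0, 0, 0, 0, 0],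
      ![1, 0, 1, 0, 0, 0, 0, 0],
      ![0, 0, 0, 1, 0, 0, 0, 0],
      ![0, 0, 0, 0, 1, 0, 0, 0],
      ![0, 0, 0, 0, 0, 1, 0, 0],
      ![0, 0, 0, 0, 0, 0, 1, 1],
      ![0, 0, 0, 0, 0, 0, 0, -1]]),
    (7, ![![1, 0, 0, 0, 0, 0, 0, 0],
      ![0, 1, 0, 0, 0, 0, 0, 0],
      ![0, 0, 1, 0, 0, 0, 0, 0],
      ![0, 0, 0, 1, 0, 0, 0, 0],
      ![0, 0, 0, 0, 1, 0, 0, 0],
      ![0, 0, 0, 0, 0, 1, 0, 0],
      ![0, 0, 0, 0, 0, 0, 1, 1],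
      ![0, 0, 0, 0, 0, 0, 0, -1]])]

/-- the matrix of `θ` -/
def Th : Mat 8 := ![![-1, 0, -1, 0, 0, 0, 0, 0],
    ![0, 0, 1, 1, 1, 0, 0, 0],
    ![1, 1, 1, 1, 1, 0, 0, 0],
    ![0, -1, -1, -1, -1, 0, 0, 0],
    ![0, 1, 1, 1, 1, 1, 0, 0],
    ![0, 0, 0, 0, 0, 0, 1, 0],
    ![0, 0, 0, 0, 0, 0, 0, 1],
    ![0, 0, 0, 0, -1, -1, -1, -1]]

/-- the basis -/
def V : Mat 8 := ![![-2, -3, -4, -6, -5, -4, -3, -2],
    ![-2, -3, -4, -6, -4, -3, -2, -1],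
    ![-2, -2, -3, -5, -4, -3, -2, -1],
    ![-1, -2, -2, -4, -3, -3, -2, -1],
    ![-1, -1, -2, -3, -2, -2, -2, -1],
    ![-1, -1, -1, -2, -1, -1, -1, -1],
    ![0, 0, 0, -1, 0, 0, 0, 0],
    ![0, 1, 1, 1, 1, 0, 0, 0]]

/-- the coordinates -/
def B : Mat 8 := ![![1, 0, -1, 0, 0, -1, 1, 0],
    ![1, 0, 0, -1, 0, -1, 1, 1],
    ![-1, -1, 1, 1, 0, 1, 0, -1],
    ![0, 0, 0, 0, 0, 0, -1, 0],
    ![0, 1, -1, 0, 0, 0, 0, 1],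
    ![-1, -1, 1, 0, 1, 1, 0, -2],
    ![2, 1, -1, -1, -2, -1, 1, 2],
    ![-2, 0, 1, 1, 1, 0, -1, -1]]

/-- the polynomial -/
def c : Fin 8 → ℤ := ![1, 1, 0, -1, -1, -1, 0, 1]

/-- the representatives of the orbits of `θ` on the roots -/
def R : Fin 8 → Fin 8 → ℤ := ![![-2, -3, -4, -6, -5, -4, -3, -2],
    ![1, 2, 2, 3, 3, 2, 1, 1],
    ![0, -1, -1, -2, -1, -1, -1, -1],
    ![1, 1, 2, 2, 2, 1, 1, 1],
    ![-1, 0, -1, -1, -1, -1, -1, -1],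
    ![0, 1, 1, 1, 1, 1, 1, 1],
    ![-1, -1, -2, -2, -1, -1, -1, 0],
    ![0, 0, 0, 0, 1, 1, 1, 1]]

/-- the values of the functional on the representatives -/
def G : Fin 8 → Fin 8 → ℤ := ![![1, 0, 0, 0, 0, 0, 0, 0],
    ![-1, 0, 0, 0, 1, 0, 0, 0],
    ![1, 0, -1, 0, 0, 0, 1, 0],
    ![-1, 0, 0, 1, 0, 0, 0, 0],
    ![1, 0, 0, -1, 0, 0, 0, 1],
    ![-1, 0, 1, 0, 0, 0, 0, 0],
    ![-1, 1, 0, 0, 1, 0, -1, 0],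
    ![-1, 1, 0, 0, 0, 0, 0, 0]]

/-- predecessor -/
def prv (r : ℕ) : ℕ := Nat.mod (Nat.shiftRight 0xeeedeceaefdfe8e1ebdbe0dedddce6e9d2dad5d4d3e2e7e5e4e3c8bf00bccbcac9c1c0bed6cfcdccd9d8d7d1d0ce9f9d9c009594a1a09e97c5c3c2bab9b8c7c6c4bb8b8a89878c9a9998939b4d88b5b3b2acabaab7b6b4ad007f7e6d81a7a6a5a3a86191908f8d924bb0afaea9b1007572698584837c7b797674736c6b6a867d7a783e4641403fa45d62605f5e8e474c4a49486e8271706f423b39004544433d3c3a67a2545c5756006368666564342b29283736352d2c2a5851004e5b5a59535250211f1e18171623222019312f2e262524333230270c0b0a080d1c1b1a151d06091312110f14040e07100005030200 (8 * r)) 256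

/-- depth -/
def dep (r : ℕ) : ℕ := Nat.mod (Nat.shiftRight 0xf0e0d0c100b05041102070b050803060a0a0407010912080c0603060009080b09050701070a080213090d090c06040605001d08090f0c010e0d07100d02140a0a0a050a04030a0f120702100715080e030b05040f0e1106001d1c07011308030810020904090314020b0b0b0b15001d1c1b0c0c0c0d0d0e1d1c1c1b1b1b0c0d0e0f061a1a1a1a11051218131811011712170410160d0e0f15021d0013141a121d1706160111160300191213191419191905111c01161c1d101b0018170e0f141513151b181c180411171916101614181a17180f1512151b1703181016131919151217141a16110213141a011b1c1d00 (8 * r)) 256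

theorem hA : ∀ i j, Am i j = cartanOf chevE8 8 i j := by decide +kernel

theorem chainOK : ChainOK Am chain := by decide +kernel

theorem hd_eq : hd chain = Th := rfl

theorem cycOK : CycOK 8 Th V B c := by decide +kernel

theorem rootOK : RootOK chevE8 8 Th R prv dep := by decide +kernel

theorem coefOK : ∀ s i, ∑ j, R s j * B j i = G s i := by decide +kernel

theorem fN_eq (x : ℤ) : fN c x = 1 + x - x ^ 3 - x ^ 4 - x ^ 5 + x ^ 7 + x ^ 8 := by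
  unfold fN c
  simp [Fin.sum_univ_succ]
  try ring

theorem G_0 (x : ℤ) : Gq B x (R 0) = 1 := by
  rw [Gq_coef B x (R 0) (G 0) (coefOK 0)]
  unfold G
  simp [Fin.sum_univ_succ]
  try ring

theorem bez_0 (x : ℤ) : (0) * (1 + x - x ^ 3 - x ^ 4 - x ^ 5 + x ^ 7 + x ^ 8) + (1) * (1) = 1 := by
  ring

theorem G_1 (x : ℤ) : Gq B x (R 1) = -1 + x ^ 4 := by
  rw [Gq_coef B x (R 1) (G 1) (coefOK 1)]
  unfold G
  simp [Fin.sum_univ_succ]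
  try ring

theorem bez_1 (x : ℤ) : (1) * (1 + x - x ^ 3 - x ^ 4 - x ^ 5 + x ^ 7 + x ^ 8) + (x - x ^ 3 - x ^ 4) * (-1 + x ^ 4) = 1 := by
  ring

theorem G_2 (x : ℤ) : Gq B x (R 2) = 1 - x ^ 2 + x ^ 6 := by
  rw [Gq_coef B x (R 2) (G 2) (coefOK 2)]
  unfold G
  simp [Fin.sum_univ_succ]
  try ring

theorem bez_2 (x : ℤ) : (2 - 2 * x + x ^ 3 - x ^ 4 + 2 * x ^ 5) * (1 + x - x ^ 3 - x ^ 4 - x ^ 5 + x ^ 7 + x ^ 8) + (-1 + x ^ 2 + x ^ 3 + x ^ 4 - x ^ 6 - 2 * x ^ 7) * (1 - x ^ 2 + x ^ 6) = 1 := by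
  ring

theorem G_3 (x : ℤ) : Gq B x (R 3) = -1 + x ^ 3 := by
  rw [Gq_coef B x (R 3) (G 3) (coefOK 3)]
  unfold G
  simp [Fin.sum_univ_succ]
  try ring

theorem bez_3 (x : ℤ) : (x ^ 2) * (1 + x - x ^ 3 - x ^ 4 - x ^ 5 + x ^ 7 + x ^ 8) + (-1 + x ^ 2 - x ^ 6 - x ^ 7) * (-1 + x ^ 3) = 1 := by
  ring

theorem G_4 (x : ℤ) : Gq B x (R 4) = 1 - x ^ 3 + x ^ 7 := by
  rw [Gq_coef B x (R 4) (G 4) (coefOK 4)]
  unfold G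
  simp [Fin.sum_univ_succ]
  try ring

theorem bez_4 (x : ℤ) : (-x + x ^ 2 + x ^ 5) * (1 + x - x ^ 3 - x ^ 4 - x ^ 5 + x ^ 7 + x ^ 8) + (1 + x - x ^ 5 - x ^ 6) * (1 - x ^ 3 + x ^ 7) = 1 := by
  ring

theorem G_5 (x : ℤ) : Gq B x (R 5) = -1 + x ^ 2 := by
  rw [Gq_coef B x (R 5) (G 5) (coefOK 5)]
  unfold G
  simp [Fin.sum_univ_succ]
  try ring

theorem bez_5 (x : ℤ) : (1) * (1 + x - x ^ 3 - x ^ 4 - x ^ 5 + x ^ 7 + x ^ 8) + (x - x ^ 4 - x ^ 5 - x ^ 6) * (-1 + x ^ 2) = 1 := by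
  ring

theorem G_6 (x : ℤ) : Gq B x (R 6) = -1 + x + x ^ 4 - x ^ 6 := by
  rw [Gq_coef B x (R 6) (G 6) (coefOK 6)]
  unfold G
  simp [Fin.sum_univ_succ]
  try ring

theorem bez_6 (x : ℤ) : (1 + x ^ 3 - x ^ 5) * (1 + x - x ^ 3 - x ^ 4 - x ^ 5 + x ^ 7 + x ^ 8) + (x + x ^ 2 + x ^ 3 + x ^ 4 - x ^ 6 - x ^ 7) * (-1 + x + x ^ 4 - x ^ 6) = 1 := by
  ring

theorem G_7 (x : ℤ) : Gq B x (R 7) = -1 + x := by
  rw [Gq_coef B x (R 7) (G 7) (coefOK 7)]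
  unfold G
  simp [Fin.sum_univ_succ]
  try ring

theorem bez_7 (x : ℤ) : (1) * (1 + x - x ^ 3 - x ^ 4 - x ^ 5 + x ^ 7 + x ^ 8) + (x + x ^ 2 - x ^ 4 - 2 * x ^ 5 - 2 * x ^ 6 - x ^ 7) * (-1 + x) = 1 := by
  ring

/-- Common divisors of `Φ(x)` and the value of `Gq` on a representative. -/
theorem dvd_of_G {x r : ℤ} (h : r ∣ 1 + x - x ^ 3 - x ^ 4 - x ^ 5 + x ^ 7 + x ^ 8) (s : Fin 8) (hs : r ∣ Gq B x (R s)) :
    r ∣ 1 := by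
  have key : ∀ {a b g y : ℤ}, a * (1 + x - x ^ 3 - x ^ 4 - x ^ 5 + x ^ 7 + x ^ 8) + b * g = y → y ∣ 1 → r ∣ g → r ∣ 1 := fun e hy hg => by
    refine dvd_trans ?_ hy
    rw [← e]
    exact dvd_add (h.mul_left _) (hg.mul_left _)
  fin_cases s
  · exact key (bez_0 x) (by norm_num) (by rw [← G_0]; exact hs)
  · exact key (bez_1 x) (by norm_num) (by rw [← G_1]; exact hs)
  · exact key (bez_2 x) (by norm_num) (by rw [← G_2]; exact hs)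
  · exact key (bez_3 x) (by norm_num) (by rw [← G_3]; exact hs)
  · exact key (bez_4 x) (by norm_num) (by rw [← G_4]; exact hs)
  · exact key (bez_5 x) (by norm_num) (by rw [← G_5]; exact hs)
  · exact key (bez_6 x) (by norm_num) (by rw [← G_6]; exact hs)
  · exact key (bez_7 x) (by norm_num) (by rw [← G_7]; exact hs)

end Cfsg.Agent.H719.TE8_30
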