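import Cfsg.Agent.H129.WData

/-!
# Data of a torus of type F4 (helper719): f(x) = 1 - x ^ 2 + x ^ 4, Phi(x) = 1 - x ^ 2 + x ^ 4

Generated by a script; the word of `w` is 3 0 1 2.
-/

set_option autoImplicit false
set_option maxRecDepth 4000

namespace Cfsg.Agent.H719.TF4_12

open Cfsg.Agent.H129.TorusTw Cfsg.Agent.H129.WData Cfsg.Agent.ChevalleyStructure.CoxeterGeomTypes
open Cfsg.Lie Cfsg.Lie.ChevalleyDatum

/-- the Cartan matrix -/
def Am : Mat 4 := ![![2, -1, 0, 0],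
    ![-1, 2, -2, 0],
    ![0, -1, 2, -1],
    ![0, 0, -1, 2]]

/-- the partial products -/
def chain : List (Fin 4 × Mat 4) := [
    (3, ![![0, 1, 0, 0],
      ![1, 1, 1, 1],
      ![-2, -2, -1, -1],
      ![2, 2, 1, 0]]),
    (0, ![![0, 1, 0, 0],
      ![1, 1, 1, 0],
      ![-2, -2, -1, 0],
      ![2, 2, 1, 1]]),
    (1, ![![1, 1, 0, 0],
      ![0, 1, 1, 0],
      ![0, -2, -1, 0],
      ![0, 2, 1, 1]]),
    (2, ![![1, 0, 0, 0],
      ![0, 1, 1, 0],
      ![0, 0, -1, 0],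
      ![0, 0, 1, 1]])]

/-- the matrix of `θ` -/
def Th : Mat 4 := ![![0, 1, 0, 0],
    ![1, 1, 1, 1],
    ![-2, -2, -1, -1],
    ![2, 2, 1, 0]]

/-- the basis -/
def V : Mat 4 := ![![-2, -3, -2, -1],
    ![-1, -3, -2, -1],
    ![-1, -2, -2, -1],
    ![0, -1, -1, 0]]

/-- the coordinates -/
def B : Mat 4 := ![![-1, 1, 0, 0],
    ![0, -1, 1, 0],
    ![0, 1, -1, -1],
    ![1, -1, -1, 2]]

/-- the polynomial -/
def c : Fin 4 → ℤ := ![1, 0, -1, 0]

/-- the representatives of the orbits of `θ` on the roots -/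
def R : Fin 4 → Fin 4 → ℤ := ![![-2, -4, -3, -1],
    ![-2, -3, -2, -1],
    ![-2, -2, -2, -1],
    ![1, 0, 0, 0]]

/-- the values of the functional on the representatives -/
def G : Fin 4 → Fin 4 → ℤ := ![![1, 0, 0, 1],
    ![1, 0, 0, 0],
    ![1, -1, 1, 0],
    ![-1, 1, 0, 0]]

/-- predecessor -/
def prv (r : ℕ) : ℕ := Nat.mod (Nat.shiftRight 0x2d2f2a261f16182c2822241b1d13002e292b2527211e20151a0f110e080a040601231c12140b0d070317190000050002 (8 * r)) 256

/-- depth -/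
def dep (r : ℕ) : ℕ := Nat.mod (Nat.shiftRight 0x5060406060304070805030205040007050704090108080309020207030a010b01060a0b08090b02010a0900000a000b (8 * r)) 256

theorem hA : ∀ i j, Am i j = cartanOf chevF4 4 i j := by decide +kernel

theorem chainOK : ChainOK Am chain := by decide +kernel

theorem hd_eq : hd chain = Th := rfl

theorem cycOK : CycOK 4 Th V B c := by decide +kernel

theorem rootOK : RootOK chevF4 4 Th R prv dep := by decide +kernel

theorem coefOK : ∀ s i, ∑ j, R s j * B j i = G s i := by decide +kernel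

theorem fN_eq (x : ℤ) : fN c x = 1 - x ^ 2 + x ^ 4 := by
  unfold fN c
  simp [Fin.sum_univ_succ]
  try ring

theorem G_0 (x : ℤ) : Gq B x (R 0) = 1 + x ^ 3 := by
  rw [Gq_coef B x (R 0) (G 0) (coefOK 0)]
  unfold G
  simp [Fin.sum_univ_succ]
  try ring

theorem bez_0 (x : ℤ) : (1 + x ^ 2) * (1 - x ^ 2 + x ^ 4) + (1 - x ^ 3) * (1 + x ^ 3) = 2 := by
  ring

theorem G_1 (x : ℤ) : Gq B x (R 1) = 1 := by
  rw [Gq_coef B x (R 1) (G 1) (coefOK 1)]
  unfold G
  simp [Fin.sum_univ_succ]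
  try ring

theorem bez_1 (x : ℤ) : (0) * (1 - x ^ 2 + x ^ 4) + (1) * (1) = 1 := by
  ring

theorem G_2 (x : ℤ) : Gq B x (R 2) = 1 - x + x ^ 2 := by
  rw [Gq_coef B x (R 2) (G 2) (coefOK 2)]
  unfold G
  simp [Fin.sum_univ_succ]
  try ring

theorem bez_2 (x : ℤ) : (x) * (1 - x ^ 2 + x ^ 4) + (2 + x - x ^ 2 - x ^ 3) * (1 - x + x ^ 2) = 2 := by
  ring

theorem G_3 (x : ℤ) : Gq B x (R 3) = -1 + x := by
  rw [Gq_coef B x (R 3) (G 3) (coefOK 3)]
  unfold G
  simp [Fin.sum_univ_succ]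
  try ring

theorem bez_3 (x : ℤ) : (1) * (1 - x ^ 2 + x ^ 4) + (-x ^ 2 - x ^ 3) * (-1 + x) = 1 := by
  ring

/-- Common divisors of `Φ(x)` and the value of `Gq` on a representative. -/
theorem dvd_of_G {x r : ℤ} (h : r ∣ 1 - x ^ 2 + x ^ 4) (s : Fin 4) (hs : r ∣ Gq B x (R s)) :
    r ∣ 2 := by
  have key : ∀ {a b g y : ℤ}, a * (1 - x ^ 2 + x ^ 4) + b * g = y → y ∣ 2 → r ∣ g → r ∣ 2 := fun e hy hg => by
    refine dvd_trans ?_ hy
    rw [← e]
    exact dvd_add (h.mul_left _) (hg.mul_left _)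
  fin_cases s
  · exact key (bez_0 x) (by norm_num) (by rw [← G_0]; exact hs)
  · exact key (bez_1 x) (by norm_num) (by rw [← G_1]; exact hs)
  · exact key (bez_2 x) (by norm_num) (by rw [← G_2]; exact hs)
  · exact key (bez_3 x) (by norm_num) (by rw [← G_3]; exact hs)

end Cfsg.Agent.H719.TF4_12
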