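import Cfsg.Agent.H719.RowHasT
import Cfsg.Agent.H719.TG2_3
import Cfsg.Agent.H719.TG2_6
import Cfsg.Agent.H719.TF4_8
import Cfsg.Agent.H719.TF4_12
import Cfsg.Agent.H719.TE6_9
import Cfsg.Agent.H719.TE6_12
import Cfsg.Agent.H719.TE7_7
import Cfsg.Agent.H719.TE7_14
import Cfsg.Agent.H719.TE8_24
import Cfsg.Agent.H719.TE8_30
import Cfsg.Agent.S1092
import Cfsg.Agent.S1093

/-!
# The tori of the exceptional groups (helper719)

`red b n` : `n / b` if `b ∣ n`, otherwise `n`.  `HasT (chevX.group F) (f_w(q)) (red b (Φ_h(q)))` for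
G2 (h = 3, 6), F4 (h = 8, 12), E6 (h = 9, 12), E7 (h = 7, 14), E8 (h = 24, 30).
-/

set_option autoImplicit false
set_option linter.unusedSectionVars false

namespace Cfsg.Agent.H719

open Subgroup

/-- `n / b` if `b ∣ n`, otherwise `n` -/
def red (b n : ℕ) : ℕ := if b ∣ n then n / b else n

theorem red_dvd (b n : ℕ) : red b n ∣ n := by
  unfold red
  split_ifs with h
  · exact Nat.div_dvd_of_dvd h
  · exact dvd_rfl

theorem red_of_not_dvd {b n : ℕ} (h : ¬ b ∣ n) : red b n = n := if_neg h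

theorem le_mul_red {b : ℕ} (hb : 0 < b) (n : ℕ) : n ≤ b * red b n := by
  unfold red
  split_ifs with h
  · rw [Nat.mul_div_cancel' h]
  · exact Nat.le_mul_of_pos_left n hb

theorem not_dvd_red {b n : ℕ} (hb : 0 < b) (h : ¬ b ^ 2 ∣ n) : ¬ b ∣ red b n := by
  unfold red
  split_ifs with h1
  · rintro ⟨c, hc⟩
    apply h
    refine ⟨c, ?_⟩
    rw [← Nat.div_mul_cancel h1, hc]
    ring
  · exact h1

theorem dvd_red {b n r : ℕ} (hb : b.Prime) (hr : r.Prime) (hrb : r ≠ b) (h : r ∣ n) : r ∣ red b n := by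
  unfold red
  split_ifs with h1
  · obtain ⟨c, rfl⟩ := h1
    rw [Nat.mul_div_cancel_left _ hb.pos]
    rcases hr.dvd_mul.1 h with h2 | h2
    · exact absurd ((Nat.prime_dvd_prime_iff_eq hr hb).1 h2) hrb
    · exact h2
  · exact h

section Torus

open CoxeterSystem Cfsg Cfsg.Lie Cfsg.Lie.ChevalleyDatum
open Cfsg.Agent.ChevalleyStructure Cfsg.Agent.ChevalleyStructure.Elts Cfsg.Agent.ChevalleyStructure.CoxeterGeom
  Cfsg.Agent.ChevalleyStructure.CoxeterGeomTypes
open Cfsg.Agent.Nodes.RGDChev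
open Cfsg.Agent.H129.TorusChar Cfsg.Agent.H129.TorusTw Cfsg.Agent.H129.WData

universe u

theorem hasT_of {D : ChevalleyDatum} {l : ℕ} {M : CoxeterMatrix (Fin l)} (hp : IsType D l M)
    {W : Type*} [Group W] (cs : CoxeterSystem M W) [Finite W] (hl : 0 < l) {F : Type u} [Field F] [Fintype F]
    {q : ℕ} (hq : Fintype.card F = q)
    {d' : ℕ} {B' : Fin l → Fin l → ℤ} (hB : InvC D l d' B') (hd' : d' ≠ 0) {A : Mat l}
    (hA : ∀ i j, A i j = cartanOf D l i j) {L : List (Fin l × Mat l)} (hL : ChainOK A L) {V B : Mat l}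
    {c : Fin l → ℤ} (hcyc : CycOK l (hd L) V B c) {m : ℕ} {R : Fin m → Fin l → ℤ} {prv dep : ℕ → ℕ}
    (hR : RootOK D l (hd L) R prv dep) {N Phi K b P : ℕ} (hfN : fN c (q : ℤ) = N) (hqN : q.Coprime N)
    (hPN : (Phi : ℤ) ∣ N) (hb : b.Prime) (hb2 : ¬ b ^ 2 ∣ Phi)
    (hK : ∀ r : ℤ, r ∣ Phi → ∀ s, r ∣ Gq B (q : ℤ) (R s) → r ∣ K) (hP : Nat.card W * d' * K ∣ P ^ 30)
    (hbad : ∀ r : ℕ, r.Prime → r ∣ P → r = b ∨ ¬ r ∣ Phi) :
    HasT ↥(D.group F) N (red b Phi) := by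
  have key : ∀ r : ℕ, r.Prime → r ∣ red b Phi → ¬ r ∣ Nat.card W * d' * K := by
    intro r hr hrr h1
    rcases hbad r hr (hr.dvd_of_dvd_pow (h1.trans hP)) with h2 | h2
    · subst h2
      exact not_dvd_red hr.pos hb2 hrr
    · exact h2 (hrr.trans (red_dvd b Phi))
  refine hasT hp cs hl hq hB hd' hA hL hcyc hR hfN hqN
    ((red_dvd b Phi).trans (Int.natCast_dvd_natCast.1 hPN)) fun r hr hrr => ?_
  have h1 := key r hr hrr
  refine ⟨fun h2 => h1 ((h2.mul_right _).mul_right _), fun h2 => h1 ((h2.mul_left _).mul_right _), fun s hs => ?_⟩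
  have h2 := hK (r : ℤ) (Int.natCast_dvd_natCast.2 (hrr.trans (red_dvd b Phi))) s hs
  exact h1 ((Int.natCast_dvd_natCast.1 h2).mul_left _)

theorem coprime_of_eq {q N : ℕ} {a b : ℤ} (h : b * N = q * a + 1) : q.Coprime N := by
  rw [← Nat.isCoprime_iff_coprime]
  exact ⟨-a, b, by rw [h]; ring⟩

/-- Divisibility by a small number from residues. -/
theorem not_dvd_of_zmod {r : ℕ} {Phi : ℕ} {z : ℤ} (h : (Phi : ℤ) = z) (h1 : (z : ZMod r) ≠ 0) : ¬ r ∣ Phi := by
  intro h2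
  apply h1
  rw [← h, Int.cast_natCast, ZMod.natCast_eq_zero_iff]
  exact h2

theorem primeFactors_6 : Nat.primeFactors 6 = {2, 3} := by
  rw [show (6 : ℕ) = 2 * 3 by norm_num, Nat.primeFactors_mul (by norm_num) (by norm_num),
    Nat.Prime.primeFactors Nat.prime_two, Nat.Prime.primeFactors Nat.prime_three]
  rfl

theorem primeFactors_30 : Nat.primeFactors 30 = {2, 3, 5} := by
  rw [show (30 : ℕ) = 6 * 5 by norm_num, Nat.primeFactors_mul (by norm_num) (by norm_num), primeFactors_6,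
    Nat.Prime.primeFactors Nat.prime_five]
  rfl

theorem primeFactors_210 : Nat.primeFactors 210 = {2, 3, 5, 7} := by
  rw [show (210 : ℕ) = 30 * 7 by norm_num, Nat.primeFactors_mul (by norm_num) (by norm_num), primeFactors_30,
    Nat.Prime.primeFactors (by norm_num : Nat.Prime 7)]
  rfl

theorem hasT_G2_3 {F : Type u} [Field F] [Fintype F] {q N Phi : ℕ} (hq : Fintype.card F = q)
    (hN : (N : ℤ) = 1 + (q : ℤ) + (q : ℤ) ^ 2) (hPhi : (Phi : ℤ) = 1 + (q : ℤ) + (q : ℤ) ^ 2) :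
    HasT ↥(chevG2.group F) N (red 3 Phi) := by
  have hW : Nat.card CoxeterMatrix.G₂.Group = 12 := Cfsg.Agent.S1092.result (⟨2, CoxeterMatrix.G₂⟩, 12) (by simp)
  have : Finite CoxeterMatrix.G₂.Group := Nat.finite_of_card_ne_zero (by rw [hW]; norm_num)
  refine hasT_of (M := CoxeterMatrix.G₂) (by simp) CoxeterMatrix.G₂.toCoxeterSystem (by norm_num) hq invC_G2 (by norm_num)
    TG2_3.hA TG2_3.chainOK TG2_3.cycOK TG2_3.rootOK (K := 3) (P := 6) ?_ ?_ ?_ Nat.prime_three ?_ ?_ ?_ ?_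
  · rw [TG2_3.fN_eq, hN]
  · exact coprime_of_eq (a := 1 + (q : ℤ)) (b := 1) (by rw [hN]; ring)
  · exact ⟨1, by rw [hN, hPhi]; ring⟩
  · refine not_dvd_of_zmod hPhi ?_
    push_cast
    generalize (q : ZMod (3 ^ 2)) = x
    revert x
    decide +kernel
  · intro r hr s hs
    exact TG2_3.dvd_of_G (by rw [← hPhi]; exact hr) s hs
  · rw [hW]; norm_num
  · intro r hr hrP
    have hr1 : r ∈ Nat.primeFactors 6 := by rw [Nat.mem_primeFactors]; exact ⟨hr, hrP, by norm_num⟩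
    have hr2 : Nat.primeFactors 6 = {2, 3} := primeFactors_6
    rw [hr2] at hr1
    simp only [Finset.mem_insert, Finset.mem_singleton] at hr1
    rcases hr1 with rfl | rfl
    · refine Or.inr (not_dvd_of_zmod hPhi ?_)
      push_cast
      generalize (q : ZMod 2) = x
      revert x
      decide +kernel
    · exact Or.inl rfl

theorem hasT_G2_6 {F : Type u} [Field F] [Fintype F] {q N Phi : ℕ} (hq : Fintype.card F = q)
    (hN : (N : ℤ) = 1 - (q : ℤ) + (q : ℤ) ^ 2) (hPhi : (Phi : ℤ) = 1 - (q : ℤ) + (q : ℤ) ^ 2) :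
    HasT ↥(chevG2.group F) N (red 3 Phi) := by
  have hW : Nat.card CoxeterMatrix.G₂.Group = 12 := Cfsg.Agent.S1092.result (⟨2, CoxeterMatrix.G₂⟩, 12) (by simp)
  have : Finite CoxeterMatrix.G₂.Group := Nat.finite_of_card_ne_zero (by rw [hW]; norm_num)
  refine hasT_of (M := CoxeterMatrix.G₂) (by simp) CoxeterMatrix.G₂.toCoxeterSystem (by norm_num) hq invC_G2 (by norm_num)
    TG2_6.hA TG2_6.chainOK TG2_6.cycOK TG2_6.rootOK (K := 3) (P := 6) ?_ ?_ ?_ Nat.prime_three ?_ ?_ ?_ ?_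
  · rw [TG2_6.fN_eq, hN]
  · exact coprime_of_eq (a := -1 + (q : ℤ)) (b := 1) (by rw [hN]; ring)
  · exact ⟨1, by rw [hN, hPhi]; ring⟩
  · refine not_dvd_of_zmod hPhi ?_
    push_cast
    generalize (q : ZMod (3 ^ 2)) = x
    revert x
    decide +kernel
  · intro r hr s hs
    exact TG2_6.dvd_of_G (by rw [← hPhi]; exact hr) s hs
  · rw [hW]; norm_num
  · intro r hr hrP
    have hr1 : r ∈ Nat.primeFactors 6 := by rw [Nat.mem_primeFactors]; exact ⟨hr, hrP, by norm_num⟩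
    have hr2 : Nat.primeFactors 6 = {2, 3} := primeFactors_6
    rw [hr2] at hr1
    simp only [Finset.mem_insert, Finset.mem_singleton] at hr1
    rcases hr1 with rfl | rfl
    · refine Or.inr (not_dvd_of_zmod hPhi ?_)
      push_cast
      generalize (q : ZMod 2) = x
      revert x
      decide +kernel
    · exact Or.inl rfl

theorem hasT_F4_8 {F : Type u} [Field F] [Fintype F] {q N Phi : ℕ} (hq : Fintype.card F = q)
    (hN : (N : ℤ) = 1 + (q : ℤ) ^ 4) (hPhi : (Phi : ℤ) = 1 + (q : ℤ) ^ 4) :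
    HasT ↥(chevF4.group F) N (red 2 Phi) := by
  have hW : Nat.card CoxeterMatrix.F₄.Group = 1152 := Cfsg.Agent.S1092.result (⟨4, CoxeterMatrix.F₄⟩, 1152) (by simp)
  have : Finite CoxeterMatrix.F₄.Group := Nat.finite_of_card_ne_zero (by rw [hW]; norm_num)
  refine hasT_of (M := CoxeterMatrix.F₄) (by simp) CoxeterMatrix.F₄.toCoxeterSystem (by norm_num) hq invC_F4 (by norm_num)
    TF4_8.hA TF4_8.chainOK TF4_8.cycOK TF4_8.rootOK (K := 2) (P := 6) ?_ ?_ ?_ Nat.prime_two ?_ ?_ ?_ ?_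
  · rw [TF4_8.fN_eq, hN]
  · exact coprime_of_eq (a := (q : ℤ) ^ 3) (b := 1) (by rw [hN]; ring)
  · exact ⟨1, by rw [hN, hPhi]; ring⟩
  · refine not_dvd_of_zmod hPhi ?_
    push_cast
    generalize (q : ZMod (2 ^ 2)) = x
    revert x
    decide +kernel
  · intro r hr s hs
    exact TF4_8.dvd_of_G (by rw [← hPhi]; exact hr) s hs
  · rw [hW]; norm_num
  · intro r hr hrP
    have hr1 : r ∈ Nat.primeFactors 6 := by rw [Nat.mem_primeFactors]; exact ⟨hr, hrP, by norm_num⟩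
    have hr2 : Nat.primeFactors 6 = {2, 3} := primeFactors_6
    rw [hr2] at hr1
    simp only [Finset.mem_insert, Finset.mem_singleton] at hr1
    rcases hr1 with rfl | rfl
    · exact Or.inl rfl
    · refine Or.inr (not_dvd_of_zmod hPhi ?_)
      push_cast
      generalize (q : ZMod 3) = x
      revert x
      decide +kernel

theorem hasT_F4_12 {F : Type u} [Field F] [Fintype F] {q N Phi : ℕ} (hq : Fintype.card F = q)
    (hN : (N : ℤ) = 1 - (q : ℤ) ^ 2 + (q : ℤ) ^ 4) (hPhi : (Phi : ℤ) = 1 - (q : ℤ) ^ 2 + (q : ℤ) ^ 4) :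
    HasT ↥(chevF4.group F) N (red 2 Phi) := by
  have hW : Nat.card CoxeterMatrix.F₄.Group = 1152 := Cfsg.Agent.S1092.result (⟨4, CoxeterMatrix.F₄⟩, 1152) (by simp)
  have : Finite CoxeterMatrix.F₄.Group := Nat.finite_of_card_ne_zero (by rw [hW]; norm_num)
  refine hasT_of (M := CoxeterMatrix.F₄) (by simp) CoxeterMatrix.F₄.toCoxeterSystem (by norm_num) hq invC_F4 (by norm_num)
    TF4_12.hA TF4_12.chainOK TF4_12.cycOK TF4_12.rootOK (K := 2) (P := 6) ?_ ?_ ?_ Nat.prime_two ?_ ?_ ?_ ?_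
  · rw [TF4_12.fN_eq, hN]
  · exact coprime_of_eq (a := -(q : ℤ) + (q : ℤ) ^ 3) (b := 1) (by rw [hN]; ring)
  · exact ⟨1, by rw [hN, hPhi]; ring⟩
  · refine not_dvd_of_zmod hPhi ?_
    push_cast
    generalize (q : ZMod (2 ^ 2)) = x
    revert x
    decide +kernel
  · intro r hr s hs
    exact TF4_12.dvd_of_G (by rw [← hPhi]; exact hr) s hs
  · rw [hW]; norm_num
  · intro r hr hrP
    have hr1 : r ∈ Nat.primeFactors 6 := by rw [Nat.mem_primeFactors]; exact ⟨hr, hrP, by norm_num⟩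
    have hr2 : Nat.primeFactors 6 = {2, 3} := primeFactors_6
    rw [hr2] at hr1
    simp only [Finset.mem_insert, Finset.mem_singleton] at hr1
    rcases hr1 with rfl | rfl
    · exact Or.inl rfl
    · refine Or.inr (not_dvd_of_zmod hPhi ?_)
      push_cast
      generalize (q : ZMod 3) = x
      revert x
      decide +kernel

theorem hasT_E6_9 {F : Type u} [Field F] [Fintype F] {q N Phi : ℕ} (hq : Fintype.card F = q)
    (hN : (N : ℤ) = 1 + (q : ℤ) ^ 3 + (q : ℤ) ^ 6) (hPhi : (Phi : ℤ) = 1 + (q : ℤ) ^ 3 + (q : ℤ) ^ 6) :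
    HasT ↥(chevE6.group F) N (red 3 Phi) := by
  have hW : Nat.card CoxeterMatrix.E₆.Group = 51840 := Cfsg.Agent.S1093.result (⟨6, CoxeterMatrix.E₆⟩, 51840) (by simp)
  have : Finite CoxeterMatrix.E₆.Group := Nat.finite_of_card_ne_zero (by rw [hW]; norm_num)
  refine hasT_of (M := CoxeterMatrix.E₆) (by simp) CoxeterMatrix.E₆.toCoxeterSystem (by norm_num) hq invC_E6 (by norm_num)
    TE6_9.hA TE6_9.chainOK TE6_9.cycOK TE6_9.rootOK (K := 3) (P := 30) ?_ ?_ ?_ Nat.prime_three ?_ ?_ ?_ ?_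
  · rw [TE6_9.fN_eq, hN]
  · exact coprime_of_eq (a := (q : ℤ) ^ 2 + (q : ℤ) ^ 5) (b := 1) (by rw [hN]; ring)
  · exact ⟨1, by rw [hN, hPhi]; ring⟩
  · refine not_dvd_of_zmod hPhi ?_
    push_cast
    generalize (q : ZMod (3 ^ 2)) = x
    revert x
    decide +kernel
  · intro r hr s hs
    exact TE6_9.dvd_of_G (by rw [← hPhi]; exact hr) s hs
  · rw [hW]; norm_num
  · intro r hr hrP
    have hr1 : r ∈ Nat.primeFactors 30 := by rw [Nat.mem_primeFactors]; exact ⟨hr, hrP, by norm_num⟩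
    have hr2 : Nat.primeFactors 30 = {2, 3, 5} := primeFactors_30
    rw [hr2] at hr1
    simp only [Finset.mem_insert, Finset.mem_singleton] at hr1
    rcases hr1 with rfl | rfl | rfl
    · refine Or.inr (not_dvd_of_zmod hPhi ?_)
      push_cast
      generalize (q : ZMod 2) = x
      revert x
      decide +kernel
    · exact Or.inl rfl
    · refine Or.inr (not_dvd_of_zmod hPhi ?_)
      push_cast
      generalize (q : ZMod 5) = x
      revert x
      decide +kernel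

theorem hasT_E6_12 {F : Type u} [Field F] [Fintype F] {q N Phi : ℕ} (hq : Fintype.card F = q)
    (hN : (N : ℤ) = 1 + (q : ℤ) - (q : ℤ) ^ 3 + (q : ℤ) ^ 5 + (q : ℤ) ^ 6) (hPhi : (Phi : ℤ) = 1 - (q : ℤ) ^ 2 + (q : ℤ) ^ 4) :
    HasT ↥(chevE6.group F) N (red 2 Phi) := by
  have hW : Nat.card CoxeterMatrix.E₆.Group = 51840 := Cfsg.Agent.S1093.result (⟨6, CoxeterMatrix.E₆⟩, 51840) (by simp)
  have : Finite CoxeterMatrix.E₆.Group := Nat.finite_of_card_ne_zero (by rw [hW]; norm_num)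
  refine hasT_of (M := CoxeterMatrix.E₆) (by simp) CoxeterMatrix.E₆.toCoxeterSystem (by norm_num) hq invC_E6 (by norm_num)
    TE6_12.hA TE6_12.chainOK TE6_12.cycOK TE6_12.rootOK (K := 2) (P := 30) ?_ ?_ ?_ Nat.prime_two ?_ ?_ ?_ ?_
  · rw [TE6_12.fN_eq, hN]
  · exact coprime_of_eq (a := 1 - (q : ℤ) ^ 2 + (q : ℤ) ^ 4 + (q : ℤ) ^ 5) (b := 1) (by rw [hN]; ring)
  · exact ⟨1 + (q : ℤ) + (q : ℤ) ^ 2, by rw [hN, hPhi]; ring⟩
  · refine not_dvd_of_zmod hPhi ?_
    push_cast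
    generalize (q : ZMod (2 ^ 2)) = x
    revert x
    decide +kernel
  · intro r hr s hs
    exact TE6_12.dvd_of_G (by rw [← hPhi]; exact hr) s hs
  · rw [hW]; norm_num
  · intro r hr hrP
    have hr1 : r ∈ Nat.primeFactors 30 := by rw [Nat.mem_primeFactors]; exact ⟨hr, hrP, by norm_num⟩
    have hr2 : Nat.primeFactors 30 = {2, 3, 5} := primeFactors_30
    rw [hr2] at hr1
    simp only [Finset.mem_insert, Finset.mem_singleton] at hr1
    rcases hr1 with rfl | rfl | rfl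
    · exact Or.inl rfl
    · refine Or.inr (not_dvd_of_zmod hPhi ?_)
      push_cast
      generalize (q : ZMod 3) = x
      revert x
      decide +kernel
    · refine Or.inr (not_dvd_of_zmod hPhi ?_)
      push_cast
      generalize (q : ZMod 5) = x
      revert x
      decide +kernel

theorem hasT_E7_7 {F : Type u} [Field F] [Fintype F] {q N Phi : ℕ} (hq : Fintype.card F = q)
    (hN : (N : ℤ) = -1 + (q : ℤ) ^ 7) (hPhi : (Phi : ℤ) = 1 + (q : ℤ) + (q : ℤ) ^ 2 + (q : ℤ) ^ 3 + (q : ℤ) ^ 4 + (q : ℤ) ^ 5 + (q : ℤ) ^ 6) :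
    HasT ↥(chevE7.group F) N (red 7 Phi) := by
  have hW : Nat.card CoxeterMatrix.E₇.Group = 2903040 := Cfsg.Agent.S1093.result (⟨7, CoxeterMatrix.E₇⟩, 2903040) (by simp)
  have : Finite CoxeterMatrix.E₇.Group := Nat.finite_of_card_ne_zero (by rw [hW]; norm_num)
  refine hasT_of (M := CoxeterMatrix.E₇) (by simp) CoxeterMatrix.E₇.toCoxeterSystem (by norm_num) hq invC_E7 (by norm_num)
    TE7_7.hA TE7_7.chainOK TE7_7.cycOK TE7_7.rootOK (K := 14) (P := 210) ?_ ?_ ?_ (by norm_num) ?_ ?_ ?_ ?_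
  · rw [TE7_7.fN_eq, hN]
  · exact coprime_of_eq (a := -(q : ℤ) ^ 6) (b := -1) (by rw [hN]; ring)
  · exact ⟨-1 + (q : ℤ), by rw [hN, hPhi]; ring⟩
  · refine not_dvd_of_zmod hPhi ?_
    push_cast
    generalize (q : ZMod (7 ^ 2)) = x
    revert x
    decide +kernel
  · intro r hr s hs
    exact TE7_7.dvd_of_G (by rw [← hPhi]; exact hr) s hs
  · rw [hW]; norm_num
  · intro r hr hrP
    have hr1 : r ∈ Nat.primeFactors 210 := by rw [Nat.mem_primeFactors]; exact ⟨hr, hrP, by norm_num⟩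
    have hr2 : Nat.primeFactors 210 = {2, 3, 5, 7} := primeFactors_210
    rw [hr2] at hr1
    simp only [Finset.mem_insert, Finset.mem_singleton] at hr1
    rcases hr1 with rfl | rfl | rfl | rfl
    · refine Or.inr (not_dvd_of_zmod hPhi ?_)
      push_cast
      generalize (q : ZMod 2) = x
      revert x
      decide +kernel
    · refine Or.inr (not_dvd_of_zmod hPhi ?_)
      push_cast
      generalize (q : ZMod 3) = x
      revert x
      decide +kernel
    · refine Or.inr (not_dvd_of_zmod hPhi ?_)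
      push_cast
      generalize (q : ZMod 5) = x
      revert x
      decide +kernel
    · exact Or.inl rfl

theorem hasT_E7_14 {F : Type u} [Field F] [Fintype F] {q N Phi : ℕ} (hq : Fintype.card F = q)
    (hN : (N : ℤ) = 1 + (q : ℤ) ^ 7) (hPhi : (Phi : ℤ) = 1 - (q : ℤ) + (q : ℤ) ^ 2 - (q : ℤ) ^ 3 + (q : ℤ) ^ 4 - (q : ℤ) ^ 5 + (q : ℤ) ^ 6) :
    HasT ↥(chevE7.group F) N (red 7 Phi) := by
  have hW : Nat.card CoxeterMatrix.E₇.Group = 2903040 := Cfsg.Agent.S1093.result (⟨7, CoxeterMatrix.E₇⟩, 2903040) (by simp)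
  have : Finite CoxeterMatrix.E₇.Group := Nat.finite_of_card_ne_zero (by rw [hW]; norm_num)
  refine hasT_of (M := CoxeterMatrix.E₇) (by simp) CoxeterMatrix.E₇.toCoxeterSystem (by norm_num) hq invC_E7 (by norm_num)
    TE7_14.hA TE7_14.chainOK TE7_14.cycOK TE7_14.rootOK (K := 14) (P := 210) ?_ ?_ ?_ (by norm_num) ?_ ?_ ?_ ?_
  · rw [TE7_14.fN_eq, hN]
  · exact coprime_of_eq (a := (q : ℤ) ^ 6) (b := 1) (by rw [hN]; ring)
  · exact ⟨1 + (q : ℤ), by rw [hN, hPhi]; ring⟩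
  · refine not_dvd_of_zmod hPhi ?_
    push_cast
    generalize (q : ZMod (7 ^ 2)) = x
    revert x
    decide +kernel
  · intro r hr s hs
    exact TE7_14.dvd_of_G (by rw [← hPhi]; exact hr) s hs
  · rw [hW]; norm_num
  · intro r hr hrP
    have hr1 : r ∈ Nat.primeFactors 210 := by rw [Nat.mem_primeFactors]; exact ⟨hr, hrP, by norm_num⟩
    have hr2 : Nat.primeFactors 210 = {2, 3, 5, 7} := primeFactors_210
    rw [hr2] at hr1
    simp only [Finset.mem_insert, Finset.mem_singleton] at hr1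
    rcases hr1 with rfl | rfl | rfl | rfl
    · refine Or.inr (not_dvd_of_zmod hPhi ?_)
      push_cast
      generalize (q : ZMod 2) = x
      revert x
      decide +kernel
    · refine Or.inr (not_dvd_of_zmod hPhi ?_)
      push_cast
      generalize (q : ZMod 3) = x
      revert x
      decide +kernel
    · refine Or.inr (not_dvd_of_zmod hPhi ?_)
      push_cast
      generalize (q : ZMod 5) = x
      revert x
      decide +kernel
    · exact Or.inl rfl

theorem hasT_E8_24 {F : Type u} [Field F] [Fintype F] {q N Phi : ℕ} (hq : Fintype.card F = q)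
    (hN : (N : ℤ) = 1 - (q : ℤ) ^ 4 + (q : ℤ) ^ 8) (hPhi : (Phi : ℤ) = 1 - (q : ℤ) ^ 4 + (q : ℤ) ^ 8) :
    HasT ↥(chevE8.group F) N (red 2 Phi) := by
  have hW : Nat.card CoxeterMatrix.E₈.Group = 696729600 := Cfsg.Agent.S1093.result (⟨8, CoxeterMatrix.E₈⟩, 696729600) (by simp)
  have : Finite CoxeterMatrix.E₈.Group := Nat.finite_of_card_ne_zero (by rw [hW]; norm_num)
  refine hasT_of (M := CoxeterMatrix.E₈) (by simp) CoxeterMatrix.E₈.toCoxeterSystem (by norm_num) hq invC_E8 (by norm_num)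
    TE8_24.hA TE8_24.chainOK TE8_24.cycOK TE8_24.rootOK (K := 6) (P := 210) ?_ ?_ ?_ Nat.prime_two ?_ ?_ ?_ ?_
  · rw [TE8_24.fN_eq, hN]
  · exact coprime_of_eq (a := -(q : ℤ) ^ 3 + (q : ℤ) ^ 7) (b := 1) (by rw [hN]; ring)
  · exact ⟨1, by rw [hN, hPhi]; ring⟩
  · refine not_dvd_of_zmod hPhi ?_
    push_cast
    generalize (q : ZMod (2 ^ 2)) = x
    revert x
    decide +kernel
  · intro r hr s hs
    exact TE8_24.dvd_of_G (by rw [← hPhi]; exact hr) s hs
  · rw [hW]; norm_num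
  · intro r hr hrP
    have hr1 : r ∈ Nat.primeFactors 210 := by rw [Nat.mem_primeFactors]; exact ⟨hr, hrP, by norm_num⟩
    have hr2 : Nat.primeFactors 210 = {2, 3, 5, 7} := primeFactors_210
    rw [hr2] at hr1
    simp only [Finset.mem_insert, Finset.mem_singleton] at hr1
    rcases hr1 with rfl | rfl | rfl | rfl
    · exact Or.inl rfl
    · refine Or.inr (not_dvd_of_zmod hPhi ?_)
      push_cast
      generalize (q : ZMod 3) = x
      revert x
      decide +kernel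
    · refine Or.inr (not_dvd_of_zmod hPhi ?_)
      push_cast
      generalize (q : ZMod 5) = x
      revert x
      decide +kernel
    · refine Or.inr (not_dvd_of_zmod hPhi ?_)
      push_cast
      generalize (q : ZMod 7) = x
      revert x
      decide +kernel

theorem hasT_E8_30 {F : Type u} [Field F] [Fintype F] {q N Phi : ℕ} (hq : Fintype.card F = q)
    (hN : (N : ℤ) = 1 + (q : ℤ) - (q : ℤ) ^ 3 - (q : ℤ) ^ 4 - (q : ℤ) ^ 5 + (q : ℤ) ^ 7 + (q : ℤ) ^ 8) (hPhi : (Phi : ℤ) = 1 + (q : ℤ) - (q : ℤ) ^ 3 - (q : ℤ) ^ 4 - (q : ℤ) ^ 5 + (q : ℤ) ^ 7 + (q : ℤ) ^ 8) :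
    HasT ↥(chevE8.group F) N (red 2 Phi) := by
  have hW : Nat.card CoxeterMatrix.E₈.Group = 696729600 := Cfsg.Agent.S1093.result (⟨8, CoxeterMatrix.E₈⟩, 696729600) (by simp)
  have : Finite CoxeterMatrix.E₈.Group := Nat.finite_of_card_ne_zero (by rw [hW]; norm_num)
  refine hasT_of (M := CoxeterMatrix.E₈) (by simp) CoxeterMatrix.E₈.toCoxeterSystem (by norm_num) hq invC_E8 (by norm_num)
    TE8_30.hA TE8_30.chainOK TE8_30.cycOK TE8_30.rootOK (K := 1) (P := 210) ?_ ?_ ?_ Nat.prime_two ?_ ?_ ?_ ?_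
  · rw [TE8_30.fN_eq, hN]
  · exact coprime_of_eq (a := 1 - (q : ℤ) ^ 2 - (q : ℤ) ^ 3 - (q : ℤ) ^ 4 + (q : ℤ) ^ 6 + (q : ℤ) ^ 7) (b := 1) (by rw [hN]; ring)
  · exact ⟨1, by rw [hN, hPhi]; ring⟩
  · refine not_dvd_of_zmod hPhi ?_
    push_cast
    generalize (q : ZMod (2 ^ 2)) = x
    revert x
    decide +kernel
  · intro r hr s hs
    exact TE8_30.dvd_of_G (by rw [← hPhi]; exact hr) s hs
  · rw [hW]; norm_num
  · intro r hr hrP
    have hr1 : r ∈ Nat.primeFactors 210 := by rw [Nat.mem_primeFactors]; exact ⟨hr, hrP, by norm_num⟩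
    have hr2 : Nat.primeFactors 210 = {2, 3, 5, 7} := primeFactors_210
    rw [hr2] at hr1
    simp only [Finset.mem_insert, Finset.mem_singleton] at hr1
    rcases hr1 with rfl | rfl | rfl | rfl
    · exact Or.inl rfl
    · refine Or.inr (not_dvd_of_zmod hPhi ?_)
      push_cast
      generalize (q : ZMod 3) = x
      revert x
      decide +kernel
    · refine Or.inr (not_dvd_of_zmod hPhi ?_)
      push_cast
      generalize (q : ZMod 5) = x
      revert x
      decide +kernel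
    · refine Or.inr (not_dvd_of_zmod hPhi ?_)
      push_cast
      generalize (q : ZMod 7) = x
      revert x
      decide +kernel

end Torus

end Cfsg.Agent.H719
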