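import Cfsg.Agent.H568.FldExc
import Cfsg.Agent.H568.RowTools
import Cfsg.Agent.H719.RowTData
import Cfsg.Agent.H83.Frob
import Cfsg.Agent.H129.UntwTwo

/-!
# The rows of the exceptional Chevalley groups: general assembly (helper719)
-/

set_option autoImplicit false
set_option linter.unusedSectionVars false

namespace Cfsg.Agent.H719

open Subgroup CoxeterSystem Cfsg Cfsg.Lie Cfsg.Lie.ChevalleyDatum
open Cfsg.Agent.ChevalleyStructure Cfsg.Agent.ChevalleyStructure.Elts Cfsg.Agent.ChevalleyStructure.CoxeterGeom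
  Cfsg.Agent.ChevalleyStructure.CoxeterGeomTypes Cfsg.Agent.ChevalleyStructure.NPerm
open Cfsg.Agent.Tits.Roots Cfsg.Agent.Tits.Core Cfsg.Agent.Nodes Cfsg.Agent.Nodes.Reps Cfsg.Agent.Nodes.BNOf
  Cfsg.Agent.Nodes.RGDChev
open Cfsg.Agent.KFacts.RgdChevCoord Cfsg.Agent.GpExc.Field Cfsg.Agent.BpExc.Fr Cfsg.Agent.BpExc.LangFr
  Cfsg.Agent.BpExc.TowChev Cfsg.Agent.BpExc
open Cfsg.Agent.H129.TorusChar Cfsg.Agent.H129.TorusMain Cfsg.Agent.H129.TorusUntw
open Cfsg.Agent.H70.ChevFix Cfsg.Agent.H70.ChevField Cfsg.Agent.H70.OutCount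
open Cfsg.Agent.H719.AutForm Cfsg.Agent.H568 Cfsg.Agent.H568.FldExc

universe u

section Gen

variable {D : ChevalleyDatum} {l : ℕ} {M : CoxeterMatrix (Fin l)} (hp : IsType D l M) {k : Type u} [Field k]
  {W : Type*} [Group W] (cs : CoxeterSystem M W) {r e : ℕ} [Fact r.Prime] [CharP k r]
  {F : Type u} [Field F] [Fintype F] (f : F →+* k)

include hp cs in
/-- **Linear automorphisms of order `p` prime to `d'` are inner.** -/
theorem inner_of_lin [IsAlgClosed k] (hq : Fintype.card F = r ^ e) {d' : ℕ}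
    {B' : Fin l → Fin l → ℤ} (hB : InvC D l d' B') (hd' : d' ≠ 0) {a : MulAut ↥(D.group F)} {p : ℕ} (ha : a ^ p = 1)
    (hc : p.Coprime d' ∨ ∀ a : F, ∃ b : F, b ^ d' = a)
    {Mt : ↥(D.group k)} (hMt : phi D k r e Mt = Mt)
    (hform : ∀ y : ↥(D.group F), emb hp.inList f (a y) = Mt * emb hp.inList f y * Mt⁻¹) :
    ∃ s : ↥(D.group F), a = MulAut.conj s := by
  rcases hc with hc | hc
  · have hpw : ∀ (m : ℕ) (y : ↥(D.group F)), emb hp.inList f ((a ^ m) y) = Mt ^ m * emb hp.inList f y * (Mt ^ m)⁻¹ := by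
      intro m
      induction m with
      | zero => intro y; simp
      | succ m ih =>
        intro y
        rw [pow_succ, MulAut.mul_apply, ih, hform, pow_succ]
        group
    obtain ⟨s, hs⟩ := Cfsg.Agent.H129.UntwTwo.fix_pow_range hp cs f hq hB hd' hMt
    have h1 : a ^ d' = MulAut.conj s := by
      ext y
      have h2 := hpw d' y
      rw [← hs, ← map_inv, ← map_mul, ← map_mul] at h2
      have h3 := emb_injective hp.inList f h2
      rw [h3, MulAut.conj_apply]
    have h4 : IsOfFinOrder a := by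
      have : Finite (MulAut ↥(D.group F)) := by
        have : Finite ↥(D.group F) := by
          have : Finite (Matrix.GeneralLinearGroup D.Idx F) := inferInstance
          infer_instance
        exact Finite.of_injective (fun g : MulAut ↥(D.group F) => (g : ↥(D.group F) → ↥(D.group F)))
          (fun g h hgh => MulEquiv.ext (congrFun hgh))
      exact isOfFinOrder_of_finite a
    have h5 : (orderOf a).Coprime d' := Nat.Coprime.coprime_dvd_left (orderOf_dvd_of_pow_eq_one ha) hc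
    obtain ⟨m, hm⟩ := exists_pow_eq_self_of_coprime h5.symm
    refine ⟨s ^ m, ?_⟩
    rw [map_pow, ← h1, hm]
  · obtain ⟨s, hs⟩ := fix_range hp cs f hq hB hd' hc hMt
    refine ⟨s, ?_⟩
    ext y
    have h2 := hform y
    rw [← hs, ← map_inv, ← map_mul, ← map_mul] at h2
    rw [emb_injective hp.inList f h2, MulAut.conj_apply]

end Gen

/-- a prime `n` such that the elements of order `n` are not fixed by a field automorphism -/
def PrimL (r e d' : ℕ) (degs : List ℕ) (n : ℕ) : Prop :=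
  n.Prime ∧ n ≠ r ∧ n.Coprime d' ∧ ∃ h, (∀ m, n ∣ r ^ m - 1 → e * h ∣ m) ∧ ∀ m ∈ degs, 0 < m ∧ m < 3 * h

section Main

variable {D : ChevalleyDatum} {l : ℕ} {M : CoxeterMatrix (Fin l)} (hp : IsType D l M) {F : Type u} [Field F] [Fintype F]
  {r e : ℕ} [Fact r.Prime] [CharP F r]

include hp in
/-- **The dichotomy for an automorphism of odd prime order.** -/
theorem dich (hq : Fintype.card F = r ^ e) (he : 0 < e) {d' : ℕ}
    {B' : Fin l → Fin l → ℤ} (hB : InvC D l d' B') (hd' : d' ≠ 0) (hR : ∀ π ∈ realised hp.inList F, π * π = 1)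
    {degs : List ℕ} (hO : OrdF.{u} D degs) {p : ℕ} (hpp : p.Prime) (hp2 : p ≠ 2)
    (hc : p.Coprime d' ∨ ∀ a : F, ∃ b : F, b ^ d' = a) {a : MulAut ↥(D.group F)} (ha : a ^ p = 1) :
    (∃ s : ↥(D.group F), a = MulAut.conj s) ∨
      (p ∣ e ∧ ∀ y : ↥(D.group F), PrimL r e d' degs (orderOf y) → a y ≠ y) := by
  have hk : CharP (AlgebraicClosure F) r := charP_of_injective_algebraMap (algebraMap F _).injective r
  by_cases hin : ∃ s : ↥(D.group F), a = MulAut.conj s
  · exact Or.inl hin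
  · right
    refine ⟨?_, ?_⟩
    · rcases lin_or_fld (k := AlgebraicClosure F) hp (algebraMap F (AlgebraicClosure F)) hq he hB hd' hR hpp hp2 ha with
        ⟨Mt, hMt, hform⟩ | ⟨h1, -⟩
      · exact absurd (inner_of_lin hp M.toCoxeterSystem _ hq hB hd' ha hc hMt hform) hin
      · exact h1
    · rintro y ⟨hn, hnr, hnd, h, hord, hh⟩ hay
      obtain ⟨Mt, hMt, hform⟩ := lin_of_fix (k := AlgebraicClosure F) hp (algebraMap F (AlgebraicClosure F)) hq he hB
        hd' hR hO hpp hp2 ha hn hnr hnd rfl hay hord hh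
      exact hin (inner_of_lin hp M.toCoxeterSystem _ hq hB hd' ha hc hMt hform)

include hp in
/-- **Assembly of the row.** -/
theorem row_gen [IsSimpleGroup ↥(D.group F)] (hna : ¬ IsMulCommutative ↥(D.group F))
    (hq : Fintype.card F = r ^ e) (he : 0 < e) {d' : ℕ}
    {B' : Fin l → Fin l → ℤ} (hB : InvC D l d' B') (hd' : d' ≠ 0) (hR : ∀ π ∈ realised hp.inList F, π * π = 1)
    {degs : List ℕ} (hO : OrdF.{u} D degs) {p : ℕ} [hpf : Fact p.Prime] (hp2 : p ≠ 2)
    (hc : p.Coprime d' ∨ ∀ a : F, ∃ b : F, b ^ d' = a)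
    (h1 : ¬ p ∣ e → p ∣ Nat.card ↥(D.group F) → (∃ P : Sylow p ↥(D.group F), IsCyclic ↥(P : Subgroup ↥(D.group F))) ∨
      ∃ x : ↥(D.group F), NoNorm p x)
    (h2 : p ∣ e → ∃ x : ↥(D.group F), NoNorm p x ∧ ∃ y ∈ zpowers x, PrimL r e d' degs (orderOf y)) :
    Row p ↥(D.group F) := by
  have hfin : Finite ↥(D.group F) := by
    have : Finite (Matrix.GeneralLinearGroup D.Idx F) := inferInstance
    infer_instance
  refine row_of hna fun a ha => ?_
  have ha1 : a ^ p = 1 := by rw [← ha, pow_orderOf_eq_one]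
  by_cases hpe : p ∣ e
  · obtain ⟨x, hx, y, hy, hyl⟩ := h2 hpe
    by_cases hin : ∃ s : ↥(D.group F), a = MulAut.conj s
    · exact Or.inr (Or.inl ⟨hin, x, hx⟩)
    · refine Or.inr (Or.inr ⟨x, hx.not_dvd, hx.pcent, fun g hg => ?_⟩)
      have hg1 : (g * a * g⁻¹) ^ p = 1 := by rw [conj_pow, ha1, mul_one, mul_inv_cancel]
      rcases dich hp hq he hB hd' hR hO hpf.1 hp2 hc hg1 with ⟨s, hs⟩ | ⟨-, h3⟩
      · apply hin
        refine ⟨g⁻¹ s, ?_⟩
        have h4 : a = g⁻¹ * (g * a * g⁻¹) * g := by group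
        rw [h4, hs]
        ext z
        simp [MulAut.mul_apply, MulAut.conj_apply]
      · refine h3 y hyl ?_
        obtain ⟨i, rfl⟩ := hy
        show (g * a * g⁻¹) (x ^ i) = x ^ i
        rw [map_zpow, hg]
  · rcases dich hp hq he hB hd' hR hO hpf.1 hp2 hc ha1 with ⟨s, hs⟩ | ⟨h3, -⟩
    · have hdvd : p ∣ Nat.card ↥(D.group F) := by
        have h3 : orderOf s = p := by
          rw [← ha, hs]
          refine (orderOf_injective (MulAut.conj : ↥(D.group F) →* MulAut ↥(D.group F)) ?_ s).symm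
          rw [← MonoidHom.ker_eq_bot_iff, ← center_eq_bot hna]
          ext x
          rw [MonoidHom.mem_ker, mem_center_iff]
          constructor
          · intro h y
            have h1 : MulAut.conj x y = y := by rw [h]; rfl
            rw [MulAut.conj_apply, mul_inv_eq_iff_eq_mul] at h1
            exact h1.symm
          · intro h
            ext y
            rw [MulAut.conj_apply, ← h y, mul_inv_cancel_right]
            rfl
        rw [← h3]
        exact orderOf_dvd_natCard s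
      rcases h1 hpe hdvd with h4 | h4
      · exact Or.inl ⟨⟨s, hs⟩, h4⟩
      · exact Or.inr (Or.inl ⟨⟨s, hs⟩, h4⟩)
    · exact absurd h3 hpe

/-- `NoNorm` from a torus, `p` not the characteristic. -/
theorem noNorm_of_hasT {D : ChevalleyDatum} {F : Type u} [Field F] [Fintype F] {N N0 : ℕ} (h : HasT ↥(D.group F) N N0)
    {p : ℕ} (hpp : p.Prime) (hpF : (p : F) ≠ 0) (hpN : ¬ p ∣ N) (hN0 : D.rank + D.nroots < N0) :
    ∃ x : ↥(D.group F), NoNorm p x ∧ orderOf x = N0 := by
  classical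
  have hfin : Finite ↥(D.group F) := by
    have : Finite (Matrix.GeneralLinearGroup D.Idx F) := inferInstance
    infer_instance
  obtain ⟨x, hx, hc⟩ := h
  refine ⟨x, Cfsg.Agent.H83.Frob.noNorm_of_frob (ι := D.Idx) (k := F) (D.group F).subtype
    (Subgroup.subtype_injective _) hpp hpF ?_ ?_, hx⟩
  · rw [hx]
    exact lt_of_le_of_lt (le_of_eq (by simp)) hN0
  · intro s hs hs1 y hy
    exact not_comm_of_not_dvd hpN ((hc s hs hs1).2 y) hy

end Main

end Cfsg.Agent.H719
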