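import Mathlib
import Cfsg.Agent.H902.DomAll

/-!
# The `r`-part of the order of the simple groups `F₄, E₆, E₇, E₈` for `r` not the characteristic:
it is less than the fourth root of the order
-/

set_option autoImplicit false

namespace Cfsg.Agent.H719.Dom4

open Finset Cfsg.Agent.H902.Lte Cfsg.Agent.H902.Art

/-- the symplectic product: `r`-part at most `q^(2m)` with two exceptions -/
theorem PC_le2 {r q : ℕ} (hr : r.Prime) (hq : 2 ≤ q) (hrq : ¬ r ∣ q) (h23 : ¬ (q = 2 ∧ r = 3))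
    (h32 : ¬ (q = 3 ∧ r = 2)) (m : ℕ) :
    P r (∏ i ∈ range m, (q ^ (2 * (i + 1)) - 1)) ≤ q ^ (2 * m) := by
  have hq0 : 0 < q := by omega
  by_cases hr2 : r = 2
  · subst hr2
    have hodd : Odd q := Nat.not_even_iff_odd.1 fun h => hrq h.two_dvd
    have hq5 : 5 ≤ q := by
      rcases hodd with ⟨k, hk⟩
      by_contra hlt
      have : q = 3 := by omega
      exact h32 ⟨this, rfl⟩
    rcases Nat.eq_zero_or_pos m with rfl | hm
    · simp [P]
    · have h1 := PC_two (by omega) hodd hm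
      have h2 : 4 * (q + 1) ≤ q ^ 2 := by nlinarith
      calc P 2 (∏ i ∈ range m, (q ^ (2 * (i + 1)) - 1)) ≤
            2 * P 2 (∏ i ∈ range m, (q ^ (2 * (i + 1)) - 1)) := by omega
        _ ≤ (4 * (q + 1)) ^ m := h1
        _ ≤ (q ^ 2) ^ m := Nat.pow_le_pow_left h2 m
        _ = q ^ (2 * m) := by rw [pow_mul]
  · obtain ⟨e, he, h1, h | ⟨hem, h⟩⟩ := PC_odd hr hr2 hq hrq m
    · rw [h.2]; exact Nat.one_le_pow _ _ hq0
    · apply le_of_sq_le
      refine h.trans ?_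
      have h3 : 3 * (q ^ e + 1) ^ 2 ≤ q ^ (4 * e) := by
        have hx : 3 ≤ q ^ e := by
          rcases Nat.lt_or_ge q 3 with h3 | h3
          · have hq2 : q = 2 := by omega
            subst hq2
            have he2 : 2 ≤ e := by
              by_contra hlt
              have he1 : e = 1 := by omega
              have h5 := h1 he1
              norm_num at h5
              exact h23 ⟨rfl, (Nat.prime_dvd_prime_iff_eq hr Nat.prime_three).1 h5⟩
            calc 3 ≤ 2 ^ 2 := by norm_num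
              _ ≤ 2 ^ e := Nat.pow_le_pow_right (by norm_num) he2
          · exact h3.trans (Nat.le_self_pow (by omega) q)
        have h5 : q ^ (4 * e) = (q ^ e) ^ 2 * (q ^ e) ^ 2 := by
          rw [← pow_add, ← pow_mul]; congr 1; ring
        rw [h5]
        generalize q ^ e = x at hx
        have h6 : 9 ≤ x ^ 2 := by nlinarith
        have h7 : 9 * x ^ 2 ≤ x ^ 2 * x ^ 2 := Nat.mul_le_mul_right _ h6
        refine le_trans ?_ h7
        nlinarith
      have ha : 1 ≤ m / e := Nat.div_pos hem (by omega)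
      have hae : m / e * e ≤ m := Nat.div_mul_le_self m e
      calc ((q ^ e + 1) ^ 2) ^ (m / e) * 3 ^ (m / e - 1) ≤
            ((q ^ e + 1) ^ 2) ^ (m / e) * 3 ^ (m / e) :=
            Nat.mul_le_mul_left _ (Nat.pow_le_pow_right (by norm_num) (by omega))
        _ = (3 * (q ^ e + 1) ^ 2) ^ (m / e) := by rw [← mul_pow, mul_comm]
        _ ≤ (q ^ (4 * e)) ^ (m / e) := Nat.pow_le_pow_left h3 _
        _ = q ^ ((4 * e) * (m / e)) := by rw [← pow_mul]
        _ ≤ q ^ (2 * (2 * m)) := Nat.pow_le_pow_right hq0 (by nlinarith)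
        _ = (q ^ (2 * m)) ^ 2 := by rw [← pow_mul]; ring

theorem sub_prod_le2 {r q : ℕ} (hr : r.Prime) (hq : 2 ≤ q) (hrq : ¬ r ∣ q)
    (h23 : ¬ (q = 2 ∧ r = 3)) (h32 : ¬ (q = 3 ∧ r = 2)) (s : Finset ℕ) (m : ℕ)
    (hs : s ⊆ range m) {N : ℕ} (hN : N ∣ ∏ i ∈ s, (q ^ (2 * (i + 1)) - 1)) :
    P r N ≤ q ^ (2 * m) := by
  have h2 : ∏ i ∈ range m, (q ^ (2 * (i + 1)) - 1) ≠ 0 :=
    Finset.prod_ne_zero_iff.2 fun i _ => sub_one_ne hq (by omega)
  exact (P_mono hr h2 (hN.trans (Finset.prod_dvd_prod_of_subset _ _ _ hs))).trans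
    (PC_le2 hr hq hrq h23 h32 m)

/-- `r` does not divide a power of the characteristic -/
theorem not_dvd_q {p r f : ℕ} (hp : p.Prime) (hr : r.Prime) (hrp : r ≠ p) : ¬ r ∣ p ^ f := fun h =>
  hrp ((Nat.prime_dvd_prime_iff_eq hr hp).1 (hr.dvd_of_dvd_pow h))

theorem P_M_le {X : Sh} {p f M r : ℕ} (h : Real X p f M) (hr : r.Prime) (hrp : r ≠ p)
    (hn : num X (p ^ f) ≠ 0) : P r M ≤ P r (num X (p ^ f)) := by
  have hq0 : (p ^ f) ^ NN X ≠ 0 := pow_ne_zero _ (pow_ne_zero _ h.hp.ne_zero)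
  have h1 : M ∣ (p ^ f) ^ NN X * num X (p ^ f) := ⟨dd X (p ^ f), by rw [← h.eq, mul_comm]⟩
  refine (P_mono hr (mul_ne_zero hq0 hn) h1).trans ?_
  rw [P_mul hq0 hn, P_eq_one, one_mul]
  intro h2
  exact not_dvd_q h.hp hr hrp (hr.dvd_of_dvd_pow h2)

theorem two_le_q {X : Sh} {p f M : ℕ} (h : Real X p f M) : 2 ≤ p ^ f :=
  h.hp.two_le.trans (Nat.le_self_pow (by have := h.hf; omega) p)

theorem half {q a : ℕ} (hq : 2 ≤ q) (ha : 2 ≤ a) : q ^ a < 2 * (q ^ a - 1) := by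
  have h1 : 2 ^ 2 ≤ q ^ a := (Nat.pow_le_pow_left hq 2).trans (Nat.pow_le_pow_right (by omega) ha)
  omega

theorem dom4_F4 {p f M r : ℕ} (h : Real .F4 p f M) (hr : r.Prime) (hrp : r ≠ p) :
    (P r M) ^ 4 < M := by
  have hq := two_le_q h
  have hrq : ¬ r ∣ p ^ f := not_dvd_q h.hp hr hrp
  have hn : num .F4 (p ^ f) ≠ 0 := num_ne_zero hq .F4 (by simp)
  have hle := P_M_le h hr hrp hn
  have heq : M = (p ^ f) ^ 24 * num .F4 (p ^ f) := by
    have := h.eq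
    change 1 * M = (p ^ f) ^ 24 * _ at this
    rwa [one_mul] at this
  clear h
  generalize p ^ f = q at *
  by_cases h23 : q = 2 ∧ r = 3
  · obtain ⟨rfl, rfl⟩ := h23
    have h1 : num .F4 2 = 3 ^ 6 * 270725 := by rfl
    have h2 : P 3 (num .F4 2) = 3 ^ 6 := by
      rw [h1, P_pow_self Nat.prime_three (by norm_num)]
    rw [h2] at hle
    calc P 3 M ^ 4 ≤ (3 ^ 6) ^ 4 := Nat.pow_le_pow_left hle 4
      _ < 2 ^ 24 * (3 ^ 6 * 270725) := by norm_num
      _ = M := by rw [heq, h1]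
  by_cases h32 : q = 3 ∧ r = 2
  · obtain ⟨rfl, rfl⟩ := h32
    have h1 : num .F4 3 = 2 ^ 15 * 619625825 := by norm_num [num]
    have h2 : P 2 (num .F4 3) = 2 ^ 15 := by
      rw [h1, P_pow_self Nat.prime_two (by norm_num)]
    rw [h2] at hle
    calc P 2 M ^ 4 ≤ (2 ^ 15) ^ 4 := Nat.pow_le_pow_left hle 4
      _ < 3 ^ 24 * (2 ^ 15 * 619625825) := by norm_num
      _ = M := by rw [heq, h1]
  have h1 : P r (num .F4 q) ≤ q ^ (2 * 6) := by
    refine sub_prod_le2 hr hq hrq h23 h32 {0, 2, 3, 5} 6 (by decide) (N := num .F4 q) ?_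
    rw [Finset.prod_insert (by decide), Finset.prod_insert (by decide),
      Finset.prod_insert (by decide), Finset.prod_singleton]
    show (q ^ 2 - 1) * (q ^ 6 - 1) * (q ^ 8 - 1) * (q ^ 12 - 1) ∣ _
    rw [mul_assoc, mul_assoc]
  have h2 : q ^ 28 < 16 * num .F4 q := by
    have := Nat.mul_lt_mul'' (Nat.mul_lt_mul'' (Nat.mul_lt_mul'' (half hq (le_refl 2))
      (half hq (by norm_num : 2 ≤ 6))) (half hq (by norm_num : 2 ≤ 8)))
      (half hq (by norm_num : 2 ≤ 12))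
    calc q ^ 28 = q ^ 2 * q ^ 6 * q ^ 8 * q ^ 12 := by ring
      _ < _ := this
      _ = 16 * num .F4 q := by show _ = 16 * ((q ^ 2 - 1) * (q ^ 6 - 1) * (q ^ 8 - 1) * (q ^ 12 - 1)); ring
  have h3 : 16 ≤ q ^ 4 := (by norm_num : 16 = 2 ^ 4) ▸ Nat.pow_le_pow_left hq 4
  have h4 : P r M ^ 4 ≤ q ^ 48 := by
    calc P r M ^ 4 ≤ (q ^ (2 * 6)) ^ 4 := Nat.pow_le_pow_left (hle.trans h1) 4
      _ = q ^ 48 := by rw [← pow_mul]
  have h5 : 16 * q ^ 48 < 16 * M := by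
    calc 16 * q ^ 48 ≤ q ^ 4 * q ^ 48 := Nat.mul_le_mul_right _ h3
      _ = q ^ 24 * q ^ 28 := by ring
      _ < q ^ 24 * (16 * num .F4 q) := Nat.mul_lt_mul_of_pos_left h2 (pow_pos (by omega) _)
      _ = 16 * M := by rw [heq]; ring
  omega

theorem dom4_E6 {p f M r : ℕ} (h : Real .E6 p f M) (hr : r.Prime) (hrp : r ≠ p) :
    (P r M) ^ 4 < M := by
  have hq := two_le_q h
  have hrq : ¬ r ∣ p ^ f := not_dvd_q h.hp hr hrp
  have hn : num .E6 (p ^ f) ≠ 0 := num_ne_zero hq .E6 (by simp)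
  have hle := P_M_le h hr hrp hn
  have heq : Nat.gcd 3 (p ^ f - 1) * M = (p ^ f) ^ 36 * num .E6 (p ^ f) := h.eq
  clear h
  generalize p ^ f = q at *
  have hd : Nat.gcd 3 (q - 1) ≤ 3 := Nat.gcd_le_left _ (by norm_num)
  have hd2 : q = 2 → Nat.gcd 3 (q - 1) = 1 := by rintro rfl; rfl
  by_cases h23 : q = 2 ∧ r = 3
  · obtain ⟨rfl, rfl⟩ := h23
    have h1 : num .E6 2 = 3 ^ 6 * 4288554725 := by norm_num [num]
    have h2 : P 3 (num .E6 2) = 3 ^ 6 := by
      rw [h1, P_pow_self Nat.prime_three (by norm_num)]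
    rw [h2] at hle
    rw [hd2 rfl, one_mul] at heq
    calc P 3 M ^ 4 ≤ (3 ^ 6) ^ 4 := Nat.pow_le_pow_left hle 4
      _ < 2 ^ 36 * (3 ^ 6 * 4288554725) := by norm_num
      _ = M := by rw [heq, h1]
  by_cases h32 : q = 3 ∧ r = 2
  · obtain ⟨rfl, rfl⟩ := h32
    have h1 : num .E6 3 = 2 ^ 17 * 737826267002825 := by norm_num [num]
    have h2 : P 2 (num .E6 3) = 2 ^ 17 := by
      rw [h1, P_pow_self Nat.prime_two (by norm_num)]
    rw [h2] at hle
    have hd3 : Nat.gcd 3 (3 - 1) = 1 := by rfl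
    rw [hd3, one_mul] at heq
    calc P 2 M ^ 4 ≤ (2 ^ 17) ^ 4 := Nat.pow_le_pow_left hle 4
      _ < 3 ^ 36 * (2 ^ 17 * 737826267002825) := by norm_num
      _ = M := by rw [heq, h1]
  have h1 : P r (num .E6 q) ≤ q ^ (2 * 9) := by
    refine sub_prod_le2 hr hq hrq h23 h32 {0, 4, 2, 3, 8, 5} 9 (by decide) (N := num .E6 q) ?_
    rw [Finset.prod_insert (by decide), Finset.prod_insert (by decide),
      Finset.prod_insert (by decide), Finset.prod_insert (by decide),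
      Finset.prod_insert (by decide), Finset.prod_singleton]
    show (q ^ 2 - 1) * (q ^ 5 - 1) * (q ^ 6 - 1) * (q ^ 8 - 1) * (q ^ 9 - 1) * (q ^ 12 - 1) ∣ _
    rw [mul_assoc, mul_assoc, mul_assoc, mul_assoc]
    exact mul_dvd_mul dvd_rfl (mul_dvd_mul (pow_sub_one_dvd (by decide)) (mul_dvd_mul dvd_rfl
      (mul_dvd_mul dvd_rfl (mul_dvd_mul (pow_sub_one_dvd (by decide)) dvd_rfl))))
  have h2 : q ^ 42 < 64 * num .E6 q := by
    have := Nat.mul_lt_mul'' (Nat.mul_lt_mul'' (Nat.mul_lt_mul'' (Nat.mul_lt_mul''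
      (Nat.mul_lt_mul'' (half hq (le_refl 2)) (half hq (by norm_num : 2 ≤ 5)))
      (half hq (by norm_num : 2 ≤ 6))) (half hq (by norm_num : 2 ≤ 8)))
      (half hq (by norm_num : 2 ≤ 9))) (half hq (by norm_num : 2 ≤ 12))
    calc q ^ 42 = q ^ 2 * q ^ 5 * q ^ 6 * q ^ 8 * q ^ 9 * q ^ 12 := by ring
      _ < _ := this
      _ = 64 * num .E6 q := by
        show _ = 64 * ((q ^ 2 - 1) * (q ^ 5 - 1) * (q ^ 6 - 1) * (q ^ 8 - 1) * (q ^ 9 - 1) *
          (q ^ 12 - 1))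
        ring
  have h3 : 64 * Nat.gcd 3 (q - 1) ≤ q ^ 6 := by
    rcases Nat.lt_or_ge q 3 with h3 | h3
    · have hq2 : q = 2 := by omega
      rw [hd2 hq2, hq2]; norm_num
    · have : 3 ^ 6 ≤ q ^ 6 := Nat.pow_le_pow_left h3 6
      omega
  have h4 : P r M ^ 4 ≤ q ^ 72 := by
    calc P r M ^ 4 ≤ (q ^ (2 * 9)) ^ 4 := Nat.pow_le_pow_left (hle.trans h1) 4
      _ = q ^ 72 := by rw [← pow_mul]
  set d := Nat.gcd 3 (q - 1) with hdd
  have hdpos : 0 < d := Nat.gcd_pos_of_pos_left _ (by norm_num)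
  have h5 : (64 * d) * q ^ 72 < (64 * d) * M := by
    calc (64 * d) * q ^ 72 ≤ q ^ 6 * q ^ 72 := Nat.mul_le_mul_right _ h3
      _ = q ^ 36 * q ^ 42 := by ring
      _ < q ^ 36 * (64 * num .E6 q) := Nat.mul_lt_mul_of_pos_left h2 (pow_pos (by omega) _)
      _ = 64 * (d * M) := by rw [heq]; ring
      _ = (64 * d) * M := by ring
  have h6 : q ^ 72 < M := Nat.lt_of_mul_lt_mul_left h5
  omega

theorem dom4_E7 {p f M r : ℕ} (h : Real .E7 p f M) (hr : r.Prime) (hrp : r ≠ p) :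
    (P r M) ^ 4 < M := by
  have hq := two_le_q h
  have hrq : ¬ r ∣ p ^ f := not_dvd_q h.hp hr hrp
  have hn : num .E7 (p ^ f) ≠ 0 := num_ne_zero hq .E7 (by simp)
  have hle := P_M_le h hr hrp hn
  have heq : Nat.gcd 2 (p ^ f - 1) * M = (p ^ f) ^ 63 * num .E7 (p ^ f) := h.eq
  clear h
  generalize p ^ f = q at *
  have hd : Nat.gcd 2 (q - 1) ≤ 2 := Nat.gcd_le_left _ (by norm_num)
  have h1 : P r (num .E7 q) ≤ q ^ (3 * 9) := by
    refine sub_prod_le hr hq hrq {0, 2, 3, 4, 5, 6, 8} 9 (by decide) (N := num .E7 q) ?_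
    rw [Finset.prod_insert (by decide), Finset.prod_insert (by decide),
      Finset.prod_insert (by decide), Finset.prod_insert (by decide),
      Finset.prod_insert (by decide), Finset.prod_insert (by decide), Finset.prod_singleton]
    show (q ^ 2 - 1) * (q ^ 6 - 1) * (q ^ 8 - 1) * (q ^ 10 - 1) * (q ^ 12 - 1) * (q ^ 14 - 1) *
      (q ^ 18 - 1) ∣ _
    rw [mul_assoc, mul_assoc, mul_assoc, mul_assoc, mul_assoc]
  have h2 : q ^ 70 < 128 * num .E7 q := by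
    have := Nat.mul_lt_mul'' (Nat.mul_lt_mul'' (Nat.mul_lt_mul'' (Nat.mul_lt_mul''
      (Nat.mul_lt_mul'' (Nat.mul_lt_mul'' (half hq (le_refl 2)) (half hq (by norm_num : 2 ≤ 6)))
      (half hq (by norm_num : 2 ≤ 8))) (half hq (by norm_num : 2 ≤ 10)))
      (half hq (by norm_num : 2 ≤ 12))) (half hq (by norm_num : 2 ≤ 14)))
      (half hq (by norm_num : 2 ≤ 18))
    calc q ^ 70 = q ^ 2 * q ^ 6 * q ^ 8 * q ^ 10 * q ^ 12 * q ^ 14 * q ^ 18 := by ring
      _ < _ := this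
      _ = 128 * num .E7 q := by
        show _ = 128 * ((q ^ 2 - 1) * (q ^ 6 - 1) * (q ^ 8 - 1) * (q ^ 10 - 1) * (q ^ 12 - 1) *
          (q ^ 14 - 1) * (q ^ 18 - 1))
        ring
  have h3 : 128 * Nat.gcd 2 (q - 1) ≤ q ^ 8 := by
    have : 2 ^ 8 ≤ q ^ 8 := Nat.pow_le_pow_left hq 8
    omega
  have h4 : P r M ^ 4 ≤ q ^ 108 := by
    calc P r M ^ 4 ≤ (q ^ (3 * 9)) ^ 4 := Nat.pow_le_pow_left (hle.trans h1) 4
      _ = q ^ 108 := by rw [← pow_mul]
  set d := Nat.gcd 2 (q - 1) with hdd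
  have h5 : (128 * d) * q ^ 108 < (128 * d) * M := by
    calc (128 * d) * q ^ 108 ≤ q ^ 8 * q ^ 108 := Nat.mul_le_mul_right _ h3
      _ = q ^ 116 := by rw [← pow_add]
      _ ≤ q ^ 133 := Nat.pow_le_pow_right (by omega) (by norm_num)
      _ = q ^ 63 * q ^ 70 := by rw [← pow_add]
      _ < q ^ 63 * (128 * num .E7 q) := Nat.mul_lt_mul_of_pos_left h2 (pow_pos (by omega) _)
      _ = 128 * (d * M) := by rw [heq]; ring
      _ = (128 * d) * M := by ring
  have h6 : q ^ 108 < M := Nat.lt_of_mul_lt_mul_left h5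
  omega

theorem dom4_E8 {p f M r : ℕ} (h : Real .E8 p f M) (hr : r.Prime) (hrp : r ≠ p) :
    (P r M) ^ 4 < M := by
  have hq := two_le_q h
  have hrq : ¬ r ∣ p ^ f := not_dvd_q h.hp hr hrp
  have hn : num .E8 (p ^ f) ≠ 0 := num_ne_zero hq .E8 (by simp)
  have hle := P_M_le h hr hrp hn
  have heq : M = (p ^ f) ^ 120 * num .E8 (p ^ f) := by
    have := h.eq
    change 1 * M = (p ^ f) ^ 120 * _ at this
    rwa [one_mul] at this
  clear h
  generalize p ^ f = q at *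
  have h1 : P r (num .E8 q) ≤ q ^ (3 * 15) := by
    refine sub_prod_le hr hq hrq {0, 3, 5, 6, 8, 9, 11, 14} 15 (by decide) (N := num .E8 q) ?_
    rw [Finset.prod_insert (by decide), Finset.prod_insert (by decide),
      Finset.prod_insert (by decide), Finset.prod_insert (by decide),
      Finset.prod_insert (by decide), Finset.prod_insert (by decide),
      Finset.prod_insert (by decide), Finset.prod_singleton]
    show (q ^ 2 - 1) * (q ^ 8 - 1) * (q ^ 12 - 1) * (q ^ 14 - 1) * (q ^ 18 - 1) * (q ^ 20 - 1) *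
      (q ^ 24 - 1) * (q ^ 30 - 1) ∣ _
    rw [mul_assoc, mul_assoc, mul_assoc, mul_assoc, mul_assoc, mul_assoc]
  have h2 : q ^ 128 < 256 * num .E8 q := by
    have := Nat.mul_lt_mul'' (Nat.mul_lt_mul'' (Nat.mul_lt_mul'' (Nat.mul_lt_mul''
      (Nat.mul_lt_mul'' (Nat.mul_lt_mul'' (Nat.mul_lt_mul'' (half hq (le_refl 2))
      (half hq (by norm_num : 2 ≤ 8)))
      (half hq (by norm_num : 2 ≤ 12))) (half hq (by norm_num : 2 ≤ 14)))
      (half hq (by norm_num : 2 ≤ 18))) (half hq (by norm_num : 2 ≤ 20)))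
      (half hq (by norm_num : 2 ≤ 24))) (half hq (by norm_num : 2 ≤ 30))
    calc q ^ 128 = q ^ 2 * q ^ 8 * q ^ 12 * q ^ 14 * q ^ 18 * q ^ 20 * q ^ 24 * q ^ 30 := by ring
      _ < _ := this
      _ = 256 * num .E8 q := by
        show _ = 256 * ((q ^ 2 - 1) * (q ^ 8 - 1) * (q ^ 12 - 1) * (q ^ 14 - 1) * (q ^ 18 - 1) *
          (q ^ 20 - 1) * (q ^ 24 - 1) * (q ^ 30 - 1))
        ring
  have h3 : 256 ≤ q ^ 8 := (by norm_num : 256 = 2 ^ 8) ▸ Nat.pow_le_pow_left hq 8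
  have h4 : P r M ^ 4 ≤ q ^ 180 := by
    calc P r M ^ 4 ≤ (q ^ (3 * 15)) ^ 4 := Nat.pow_le_pow_left (hle.trans h1) 4
      _ = q ^ 180 := by rw [← pow_mul]
  have h5 : 256 * q ^ 180 < 256 * M := by
    calc 256 * q ^ 180 ≤ q ^ 8 * q ^ 180 := Nat.mul_le_mul_right _ h3
      _ = q ^ 188 := by rw [← pow_add]
      _ ≤ q ^ 248 := Nat.pow_le_pow_right (by omega) (by norm_num)
      _ = q ^ 120 * q ^ 128 := by rw [← pow_add]
      _ < q ^ 120 * (256 * num .E8 q) := Nat.mul_lt_mul_of_pos_left h2 (pow_pos (by omega) _)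
      _ = 256 * M := by rw [heq]; ring
  omega

/-- the `r`-part of the order of `F₄(q), E₆(q), E₇(q), E₈(q)`, `r` not dividing `q`, is less than
the fourth root of the order -/
theorem dom4 {X : Sh} {p f M r : ℕ} (hX : X = .F4 ∨ X = .E6 ∨ X = .E7 ∨ X = .E8)
    (h : Real X p f M) (hr : r.Prime) (hrp : r ≠ p) : (P r M) ^ 4 < M := by
  rcases hX with rfl | rfl | rfl | rfl
  · exact dom4_F4 h hr hrp
  · exact dom4_E6 h hr hrp
  · exact dom4_E7 h hr hrp
  · exact dom4_E8 h hr hrp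

end Cfsg.Agent.H719.Dom4
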