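import Cfsg.Agent.OrdDiv.Table
import Cfsg.Agent.H902.Iso
import Cfsg.Agent.H902.Facts
import Cfsg.Agent.H850.Cod.Reduce

/-!
# Codegrees of the exceptional groups `F₄, E₆, E₇, E₈`: the noncentral case in cross characteristic

`cross` : a noncentral abelian minimal normal subgroup `M` with `G / M ≃* L`, `|M|² ∣ |L|`, `L` of type
`F₄, E₆, E₇, E₈` in characteristic `p`, is an elementary abelian `p`-group.
-/

set_option autoImplicit false

universe u v

namespace Cfsg.Agent.H719.CodC2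

open Cfsg Cfsg.Lie Finset Cfsg.Agent.H902 Cfsg.Agent.H902.Art Cfsg.Agent.H902.Lte

/-! ### the order of the general linear group -/

theorem P_pow_of_ne {p t k : ℕ} (hp : p.Prime) (ht : t.Prime) (h : p ≠ t) : P p (t ^ k) = 1 :=
  P_eq_one fun hd => h ((Nat.prime_dvd_prime_iff_eq hp ht).1 (hp.dvd_of_dvd_pow hd))

/-- the `p`-part of `|GL_m(t)|` is at most `t ^ (2 m)` for primes `p ≠ t` -/
theorem P_GL_le {p t : ℕ} (hp : p.Prime) (ht : t.Prime) (hpt : p ≠ t) (m : ℕ) :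
    P p (∏ i ∈ range m, (t ^ (i + 1) - 1)) ≤ t ^ (2 * m) := by
  have ht2 := ht.two_le
  have hpt' : ¬ p ∣ t := fun h => hpt ((Nat.prime_dvd_prime_iff_eq hp ht).1 h)
  have hx : (2 : ℤ) ≤ |(t : ℤ)| := by rw [Nat.abs_cast]; exact_mod_cast ht2
  have hrx : ¬ (p : ℤ) ∣ (t : ℤ) := not_dvd_cast hpt'
  have hW : (∏ i ∈ range m, (t ^ (i + 1) - 1)) = (W (t : ℤ) m).natAbs := by
    have h : W (t : ℤ) m = ((∏ i ∈ range m, (t ^ (i + 1) - 1) : ℕ) : ℤ) := by
      rw [W, Nat.cast_prod]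
      apply Finset.prod_congr rfl
      intro i _
      rw [Nat.cast_sub (Nat.one_le_pow _ _ (by omega))]; push_cast; rfl
    rw [h, Int.natAbs_natCast]
  rw [hW]
  by_cases hp2 : p = 2
  · subst hp2
    have hodd : Odd t := ht.odd_of_ne_two (Ne.symm hpt)
    have ht3 : 3 ≤ t := by rcases hodd with ⟨k, hk⟩; omega
    have h1 : P 2 ((t : ℤ) - 1).natAbs ≤ t := by
      have h2 : ((t : ℤ) - 1).natAbs = t - 1 := by omega
      rw [h2]
      exact (P_le (by omega)).trans (by omega)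
    have h2 : P 2 ((t : ℤ) ^ 2 - 1).natAbs ≤ 2 * (t + 1) := by
      have h3 : ((t : ℤ) ^ 2 - 1).natAbs = t ^ 2 - 1 := by
        have h4 : (t : ℤ) ^ 2 - 1 = ((t ^ 2 - 1 : ℕ) : ℤ) := by
          rw [Nat.cast_sub (Nat.one_le_pow _ _ (by omega))]; push_cast; rfl
        rw [h4, Int.natAbs_natCast]
      rw [h3]
      exact P_two_sq_sub_one_le ht3 hodd
    have h3 : 2 ^ padicValNat 2 (m / 2).factorial ≤ 2 ^ (m / 2) := by
      rcases Nat.eq_zero_or_pos (m / 2) with h | h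
      · rw [h]; simp
      · exact (pow_val_factorial_two_le (by omega)).trans
          (Nat.pow_le_pow_right (by norm_num) (by omega))
    have h4 : 4 * (t + 1) ≤ t ^ 3 := by nlinarith [mul_le_mul ht3 ht3 (by norm_num) (by omega)]
    rw [PW_two hx hrx]
    have h5 : (m + 1) / 2 + 3 * (m / 2) ≤ 2 * m := by omega
    revert h1 h2 h3 h5
    generalize P 2 ((t : ℤ) - 1).natAbs = A
    generalize P 2 ((t : ℤ) ^ 2 - 1).natAbs = B
    generalize 2 ^ padicValNat 2 (m / 2).factorial = C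
    generalize (m + 1) / 2 = a
    generalize m / 2 = b
    intro h1 h2 h3 h5
    have h6 : (2 * (t + 1)) ^ b * 2 ^ b = (4 * (t + 1)) ^ b := by
      rw [← mul_pow]; congr 1; ring
    have h7 : A ^ a * B ^ b * C ≤ t ^ a * (2 * (t + 1)) ^ b * 2 ^ b :=
      Nat.mul_le_mul (Nat.mul_le_mul (Nat.pow_le_pow_left h1 _) (Nat.pow_le_pow_left h2 _)) h3
    rw [mul_assoc, mul_assoc, h6] at h7
    have h8 : t ^ a * (4 * (t + 1)) ^ b ≤ t ^ a * (t ^ 3) ^ b :=
      Nat.mul_le_mul_left _ (Nat.pow_le_pow_left h4 _)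
    rw [← pow_mul, ← pow_add] at h8
    rw [mul_assoc]
    exact h7.trans (h8.trans (Nat.pow_le_pow_right (by omega) h5))
  · rcases Nat.eq_zero_or_pos (m / orderOf ((t : ℤ) : ZMod p)) with h0 | h0
    · rw [PW_zero hp hp2 hx hrx m h0]; exact Nat.one_le_pow _ _ (by omega)
    · apply le_of_sq_le
      have he := order_pos (q := t) hp hrx
      set e := orderOf ((t : ℤ) : ZMod p) with hedef
      have hB : (P p ((t : ℤ) ^ e - 1).natAbs) ^ 2 ≤ (t ^ e) ^ 2 := by
        apply Nat.pow_le_pow_left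
        have h3 : ((t : ℤ) ^ e - 1).natAbs = t ^ e - 1 := by
          have h4 : (t : ℤ) ^ e - 1 = ((t ^ e - 1 : ℕ) : ℤ) := by
            rw [Nat.cast_sub (Nat.one_le_pow _ _ (by omega))]; push_cast; rfl
          rw [h4, Int.natAbs_natCast]
        rw [h3]
        exact (P_le (sub_one_ne ht2 (by omega))).trans (by omega)
      have h1 := PW_odd_sq hp hp2 hx hrx m ((t ^ e) ^ 2) hB h0.ne'
      refine h1.trans ?_
      rw [← hedef]
      have hae : m / e * e ≤ m := Nat.div_mul_le_self m e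
      have ham : m / e ≤ m := Nat.div_le_self m e
      have h3 : 3 ≤ t ^ 2 := by nlinarith
      calc ((t ^ e) ^ 2) ^ (m / e) * 3 ^ (m / e - 1) ≤ ((t ^ e) ^ 2) ^ (m / e) * 3 ^ (m / e) :=
            Nat.mul_le_mul_left _ (Nat.pow_le_pow_right (by norm_num) (by omega))
        _ ≤ ((t ^ e) ^ 2) ^ (m / e) * (t ^ 2) ^ (m / e) :=
            Nat.mul_le_mul_left _ (Nat.pow_le_pow_left h3 _)
        _ = t ^ (2 * (m / e * e) + 2 * (m / e)) := by
            rw [← pow_mul, ← pow_mul, ← pow_mul, ← pow_add]; congr 1; ring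
        _ ≤ t ^ (2 * (2 * m)) := Nat.pow_le_pow_right (by omega) (by omega)
        _ = (t ^ (2 * m)) ^ 2 := by rw [← pow_mul]; congr 1; ring

theorem P_card_GL {p t : ℕ} (hp : p.Prime) [ht : Fact t.Prime] (hpt : p ≠ t) (m : ℕ) :
    P p (Nat.card (Matrix.GeneralLinearGroup (Fin m) (ZMod t))) ≤ t ^ (2 * m) := by
  have ht2 := ht.out.two_le
  have h1 : Nat.card (Matrix.GeneralLinearGroup (Fin m) (ZMod t)) =
      (∏ i ∈ range m, t ^ i) * ∏ i ∈ range m, (t ^ (i + 1) - 1) := by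
    rw [Matrix.card_GL_field, ZMod.card, Fin.prod_univ_eq_prod_range (fun i => t ^ m - t ^ i) m,
      ← Finset.prod_range_reflect (fun i => t ^ (i + 1) - 1) m, ← Finset.prod_mul_distrib]
    refine Finset.prod_congr rfl fun i hi => ?_
    have hi' := Finset.mem_range.1 hi
    have h2 : m - 1 - i + 1 = m - i := by omega
    rw [h2, Nat.mul_sub, mul_one, ← pow_add]
    congr 2
    omega
  have hne : ∏ i ∈ range m, (t ^ (i + 1) - 1) ≠ 0 :=
    Finset.prod_ne_zero_iff.2 fun i _ => sub_one_ne ht2 (by omega)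
  rw [h1, Finset.prod_pow_eq_pow_sum, P_mul (pow_ne_zero _ (by omega)) hne,
    P_pow_of_ne hp ht.out hpt, one_mul]
  exact P_GL_le hp ht.out hpt m

/-- the numerical contradiction -/
theorem num_false {X : Sh} {p f N t m : ℕ} (h : Real X p f N)
    (hX : X = .F4 ∨ X = .E6 ∨ X = .E7 ∨ X = .E8) (ht : t.Prime) (htp : t ≠ p)
    (hsq : (t ^ m) ^ 2 ∣ N) (hGL : N ∣ Nat.card (Matrix.GeneralLinearGroup (Fin m) (ZMod t))) :
    False := by
  have := Fact.mk ht
  have hN0 : N ≠ 0 := h.M_ne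
  have h1 : P p N ≤ t ^ (2 * m) :=
    (P_mono h.hp Nat.card_pos.ne' hGL).trans (P_card_GL h.hp (Ne.symm htp) m)
  have h2 : t ^ (2 * m) ≤ P t N := by
    have h3 : P t ((t ^ m) ^ 2) ≤ P t N := P_mono ht hN0 hsq
    have h4 : P t ((t ^ m) ^ 2) = t ^ (2 * m) := by
      have h5 : (t ^ m) ^ 2 = t ^ (2 * m) * 1 := by rw [← pow_mul, mul_one, mul_comm]
      rw [h5, P_pow_self ht (fun h => ht.one_lt.ne' (Nat.dvd_one.1 h))]
    rwa [h4] at h3
  have h3 : P t N ≤ (p ^ f) ^ NN X := by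
    refine h.dom ?_ ht htp ?_ ?_ <;> rcases hX with rfl | rfl | rfl | rfl <;> simp
  rw [h.P_self] at h1
  have h4 : (p ^ f) ^ NN X = t ^ (2 * m) := le_antisymm h1 (h2.trans h3)
  have h5 : p ∣ (p ^ f) ^ NN X := by
    rw [← pow_mul]
    refine dvd_pow_self p (Nat.mul_ne_zero (by have := h.hf; omega) ?_)
    rcases hX with rfl | rfl | rfl | rfl <;> decide
  rw [h4] at h5
  exact htp ((Nat.prime_dvd_prime_iff_eq h.hp ht).1 (h.hp.dvd_of_dvd_pow h5)).symm

/-! ### the orders of the groups -/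

theorem real_of_mem {F : Type v} [Field F] [Fintype F] {D : ChevalleyDatum}
    (hD : D ∈ [chevF4, chevE6, chevE7, chevE8]) {p f : ℕ} (hp : p.Prime) (hf : 1 ≤ f)
    (hF : Fintype.card F = p ^ f) :
    ∃ X : Sh, (X = .F4 ∨ X = .E6 ∨ X = .E7 ∨ X = .E8) ∧ Real X p f (Nat.card (D.group F)) := by
  have := Fact.mk hp
  obtain ⟨K, _, _, hK⟩ : ∃ (K : Type) (_ : Field K) (_ : Fintype K), Fintype.card K = p ^ f := by
    let := Fintype.ofFinite (GaloisField p f)
    exact ⟨GaloisField p f, inferInstance, inferInstance,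
      (Nat.card_eq_fintype_card).symm.trans (GaloisField.card p f (by omega))⟩
  have σ : K ≃+* F := FiniteField.ringEquivOfCardEq (by rw [hK, hF])
  obtain ⟨e⟩ := H902.Iso.chev_congr σ D
  rw [← Nat.card_congr e.toEquiv]
  simp only [List.mem_cons, List.not_mem_nil, or_false] at hD
  rcases hD with rfl | rfl | rfl | rfl
  · refine ⟨.F4, Or.inl rfl, hp, hf, trivial, ?_⟩
    change 1 * _ = (p ^ f) ^ 24 * (_ * _ * _ * _)
    rw [(OrdDiv.table.{0}).f4 K _ hK]
    ring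
  · refine ⟨.E6, Or.inr (Or.inl rfl), hp, hf, trivial, ?_⟩
    change Nat.gcd 3 (p ^ f - 1) * _ = (p ^ f) ^ 36 * (_ * _ * _ * _ * _ * _)
    rw [(OrdDiv.table.{0}).e6 K _ hK]
    ring
  · refine ⟨.E7, Or.inr (Or.inr (Or.inl rfl)), hp, hf, trivial, ?_⟩
    change Nat.gcd 2 (p ^ f - 1) * _ = (p ^ f) ^ 63 * (_ * _ * _ * _ * _ * _ * _)
    rw [(OrdDiv.table.{0}).e7 K _ hK]
    ring
  · refine ⟨.E8, Or.inr (Or.inr (Or.inr rfl)), hp, hf, trivial, ?_⟩
    change 1 * _ = (p ^ f) ^ 120 * (_ * _ * _ * _ * _ * _ * _ * _)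
    rw [(OrdDiv.table.{0}).e8 K _ hK]
    ring

/-! ### the group theoretic form -/

/-- a noncentral abelian minimal normal subgroup is a group of the characteristic of `F` -/
theorem cross {F : Type v} [Field F] [Fintype F] {D : ChevalleyDatum}
    (hD : D ∈ [chevF4, chevE6, chevE7, chevE8]) [IsSimpleGroup (D.group F)] {G : Type u} [Group G]
    [Finite G] (M : Subgroup G) [M.Normal] (e : G ⧸ M ≃* D.group F) (hM1 : M ≠ ⊥)
    (hmin : ∀ J : Subgroup G, J.Normal → J ≤ M → J = ⊥ ∨ J = M)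
    (hab : ∀ x ∈ M, ∀ y ∈ M, Commute x y) (hnc : ¬ M ≤ Subgroup.center G)
    (hsq : Nat.card M ^ 2 ∣ Nat.card (D.group F)) {p : ℕ} (hp : p.Prime) [CharP F p] :
    ∃ m : ℕ, Nat.card M = p ^ m ∧ ∀ x ∈ M, x ^ p = 1 := by
  obtain ⟨f, hf⟩ : ∃ f, Fintype.card F = p ^ f := by
    obtain ⟨n, -, hn⟩ := FiniteField.card F p
    exact ⟨n, hn⟩
  have hf1 : 1 ≤ f := by
    rcases Nat.eq_zero_or_pos f with h | h
    · rw [h, pow_zero] at hf
      exact absurd hf (Fintype.one_lt_card (α := F)).ne'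
    · exact h
  obtain ⟨X, hX, hR⟩ := real_of_mem (F := F) hD hp hf1 hf
  obtain ⟨t, ht, m, hm, hx, hGL⟩ := H850.Cod.noncentral M e hM1 hmin hab hnc
  by_cases htp : t = p
  · subst htp
    exact ⟨m, hm, hx⟩
  · rw [hm] at hsq
    exact (num_false hR hX ht htp hsq hGL).elim

end Cfsg.Agent.H719.CodC2
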