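import Cfsg.Agent.H129.UntwTwo
import Cfsg.Agent.H70.OutCount

/-!
# Automorphisms of odd order of the exceptional Chevalley groups (helper719)

`D` a tabulated datum all of whose realised diagram permutations are involutions, `F` a finite field of
characteristic `p`, `f : F →+* k`, `k` algebraically closed.

* `Val hD ψ c τ` : `ψ (x_{±p_i}(t)) = x_{±p_i}(c_i^{±1} τ(t))`;
* `exists_split` : an automorphism of odd order `n` is `conj g * ψ` with `Val hD ψ c τ`, `τ ^ n = 1`;
* `aut_form` : `emb (a y) = M * φ_j (emb y) * M⁻¹` with `M` fixed by the `q`-Frobenius, `τ = (x ↦ x ^ (p ^ j))`.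
-/

set_option autoImplicit false
set_option linter.unusedSectionVars false

namespace Cfsg.Agent.H719.AutForm

open scoped Pointwise
open CoxeterSystem Cfsg Cfsg.Lie Cfsg.Lie.ChevalleyDatum
open Cfsg.Agent.ChevalleyStructure Cfsg.Agent.ChevalleyStructure.Elts Cfsg.Agent.ChevalleyStructure.CoxeterGeom
  Cfsg.Agent.ChevalleyStructure.CoxeterGeomTypes Cfsg.Agent.ChevalleyStructure.NPerm
open Cfsg.Agent.Tits.Roots Cfsg.Agent.Tits.Core Cfsg.Agent.Nodes Cfsg.Agent.Nodes.Reps Cfsg.Agent.Nodes.BNOf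
  Cfsg.Agent.Nodes.RGDChev
open Cfsg.Agent.KFacts.RgdChevCoord Cfsg.Agent.GpExc.Field Cfsg.Agent.BpExc.Fr Cfsg.Agent.BpExc.LangFr
  Cfsg.Agent.BpExc.TowChev Cfsg.Agent.BpExc
open Cfsg.Agent.H129.TorusChar Cfsg.Agent.H129.TorusMain Cfsg.Agent.H129.TorusUntw
open Cfsg.Agent.H70.ChevFix Cfsg.Agent.H70.ChevField Cfsg.Agent.H70.OutCount
open Cfsg.Agent.Schreier.ChevLocal

universe u

section Val

variable {D : ChevalleyDatum} (hD : InList D) {F : Type u} [Field F]

/-- The values of an automorphism on the root elements. -/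
structure Val (ψ : MulAut ↥(D.group F)) (c : Fin D.rank → F) (τ : RingAut F) : Prop where
  ne : ∀ i, c i ≠ 0
  pos : ∀ (i : Fin D.rank) (t : F), ψ (xe hD (D.simple i) t) = xe hD (D.simple i) (c i * τ t)
  neg : ∀ (i : Fin D.rank) (t : F), ψ (xe hD (D.neg (D.simple i)) t) =
    xe hD (D.neg (D.simple i)) ((c i)⁻¹ * τ t)

theorem exists_val {ψ : MulAut ↥(D.group F)} (h : Perm D F ψ 1) : ∃ (c : Fin D.rank → F) (τ : RingAut F),
    Val hD ψ c τ := by
  obtain ⟨c, σ, hc, h1, h2, h3⟩ := exists_field hD h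
  obtain ⟨τ, hτ⟩ := sigma_eq hD (σ := σ) h3
  refine ⟨c, τ, hc, fun i t => ?_, fun i t => ?_⟩
  · rw [h1, hτ]; rfl
  · rw [h2, hτ]; rfl

variable {hD}

theorem Val.mul {ψ ψ' : MulAut ↥(D.group F)} {c c' : Fin D.rank → F} {τ τ' : RingAut F} (h : Val hD ψ c τ)
    (h' : Val hD ψ' c' τ') : Val hD (ψ * ψ') (fun i => c i * τ (c' i)) (τ * τ') where
  ne i := mul_ne_zero (h.ne i) (by rw [Ne, EmbeddingLike.map_eq_zero_iff]; exact h'.ne i)
  pos i t := by
    rw [MulAut.mul_apply, h'.pos, h.pos, map_mul, mul_assoc]; rfl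
  neg i t := by
    rw [MulAut.mul_apply, h'.neg, h.neg, map_mul, map_inv₀, mul_inv, mul_assoc]; rfl

theorem Val.one : Val hD (1 : MulAut ↥(D.group F)) (fun _ => 1) 1 where
  ne _ := one_ne_zero
  pos i t := by rw [MulAut.one_apply, one_mul]; rfl
  neg i t := by rw [MulAut.one_apply, inv_one, one_mul]; rfl

theorem Val.pow {ψ : MulAut ↥(D.group F)} {c : Fin D.rank → F} {τ : RingAut F} (h : Val hD ψ c τ) (n : ℕ) :
    ∃ c', Val hD (ψ ^ n) c' (τ ^ n) := by
  induction n with
  | zero => rw [pow_zero, pow_zero]; exact ⟨_, Val.one⟩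
  | succ n ih =>
    obtain ⟨c', h'⟩ := ih
    rw [pow_succ, pow_succ]
    exact ⟨_, h'.mul h⟩

theorem Val.tau_unique {ψ : MulAut ↥(D.group F)} {c c' : Fin D.rank → F} {τ τ' : RingAut F} (h : Val hD ψ c τ)
    (h' : Val hD ψ c' τ') : τ = τ' := by
  have hrank : 0 < D.rank := (RootComb.good_of_mem hD).rank_pos
  let i : Fin D.rank := ⟨0, hrank⟩
  have h1 : ∀ t : F, c i * τ t = c' i * τ' t := fun t => by
    apply xe_inj hD (S1042.simple_lt hD i.2)
    rw [← h.pos, ← h'.pos]
  have h2 : c i = c' i := by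
    have := h1 1
    rwa [map_one, map_one, mul_one, mul_one] at this
  ext t
  have h3 := h1 t
  rw [h2] at h3
  exact mul_left_cancel₀ (h'.ne i) h3

theorem val_conj {g : ↥(D.group F)} (hg : g ∈ HH D F) : ∃ c, Val hD (MulAut.conj g) c 1 := by
  have hact : ∀ r, r < D.nroots → ∃ c : F, c ≠ 0 ∧ ∀ a, MulAut.conj g (xe hD r a) = xe hD r (c * a) := by
    intro r hr
    obtain ⟨c, hc0, hct⟩ := BNChev.diagonal_conj hD (F := F) (h := (g : GL D.Idx F)) hg hr
    refine ⟨c, hc0, fun a => Subtype.ext ?_⟩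
    exact hct a
  have hP : Perm D F (MulAut.conj g) 1 :=
    ⟨fun i => conj_XX hD hg (S1042.simple_lt hD i.2), fun i => conj_XX hD hg (neg_simple_lt hD i.2)⟩
  obtain ⟨c, τ, h⟩ := exists_val hD hP
  have hrank : 0 < D.rank := (RootComb.good_of_mem hD).rank_pos
  let i : Fin D.rank := ⟨0, hrank⟩
  have hτ : τ = 1 := by
    obtain ⟨d, hd0, hd⟩ := hact _ (S1042.simple_lt hD i.2)
    have h1 : ∀ t : F, c i * τ t = d * t := fun t => by
      apply xe_inj hD (S1042.simple_lt hD i.2)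
      rw [← h.pos, hd]
    have h2 : c i = d := by
      have := h1 1
      rwa [map_one, mul_one, mul_one] at this
    ext t
    have h3 := h1 t
    rw [h2] at h3
    exact mul_left_cancel₀ hd0 h3
  rw [hτ] at h
  exact ⟨c, h⟩

variable (hD)

/-- **Automorphisms of odd order.** -/
theorem exists_split [Finite F] (hR : ∀ π ∈ realised hD F, π * π = 1) {a : MulAut ↥(D.group F)} {n : ℕ}
    (hn : Odd n) (ha : a ^ n = 1) : ∃ (g : ↥(D.group F)) (ψ : MulAut ↥(D.group F)) (c : Fin D.rank → F)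
      (τ : RingAut F), a = MulAut.conj g * ψ ∧ Val hD ψ c τ ∧ τ ^ n = 1 := by
  obtain ⟨m, hm⟩ := hn
  set b := a ^ (m + 1) with hb
  have hbb : b * b = a := by
    rw [hb, ← pow_add, show m + 1 + (m + 1) = n + 1 by omega, pow_succ, ha, one_mul]
  obtain ⟨x, π, -, -, h1, h2⟩ := exists_conj_perm (F := F) hD b
  have hφ : Perm D F (MulAut.conj x * b) π := ⟨h1, h2⟩
  set φ := MulAut.conj x * b with hφd
  have hbφ : b = MulAut.conj x⁻¹ * φ := by rw [hφd, map_inv, inv_mul_cancel_left]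
  have hconj : ∀ (α : MulAut ↥(D.group F)) (y : ↥(D.group F)), α * MulAut.conj y = MulAut.conj (α y) * α := by
    intro α y
    ext z
    simp [MulAut.mul_apply, MulAut.conj_apply]
  have haφ : a = MulAut.conj (x⁻¹ * φ x⁻¹) * (φ * φ) := by
    rw [← hbb]
    calc b * b = MulAut.conj x⁻¹ * (φ * MulAut.conj x⁻¹) * φ := by
          conv_lhs => rw [hbφ]
          simp only [mul_assoc]
      _ = _ := by rw [hconj, map_mul]; simp only [mul_assoc]
  have hφφ : Perm D F (φ * φ) 1 := by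
    have h3 := hφ.mul hφ
    rwa [hR π ⟨φ, hφ⟩] at h3
  obtain ⟨c, τ, hv⟩ := exists_val hD hφφ
  refine ⟨_, _, c, τ, haφ, hv, ?_⟩
  set g := x⁻¹ * φ x⁻¹ with hg
  set ψ := φ * φ with hψ
  have hpow : ∀ k : ℕ, ∃ y : ↥(D.group F), a ^ k = MulAut.conj y * ψ ^ k := by
    intro k
    induction k with
    | zero => exact ⟨1, by simp⟩
    | succ k ih =>
      obtain ⟨y, hy⟩ := ih
      refine ⟨y * (ψ ^ k) g, ?_⟩
      rw [pow_succ, hy, pow_succ, map_mul]
      calc MulAut.conj y * ψ ^ k * a = MulAut.conj y * (ψ ^ k * MulAut.conj g) * ψ := by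
            conv_lhs => rw [haφ]
            simp only [mul_assoc]
        _ = _ := by rw [hconj]; simp only [mul_assoc]
  obtain ⟨y, hy⟩ := hpow n
  rw [ha] at hy
  have hyψ : MulAut.conj y⁻¹ = ψ ^ n := by
    rw [map_inv, ← mul_one (MulAut.conj y)⁻¹, hy, inv_mul_cancel_left]
  have hPn : ∀ k : ℕ, Perm D F (ψ ^ k) 1 := by
    intro k
    induction k with
    | zero => rw [pow_zero]; exact Perm.one
    | succ k ih => rw [pow_succ]; have := ih.mul hφφ; rwa [mul_one] at this
  have hyH : y⁻¹ ∈ HH D F := by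
    have h3 : Perm D F (MulAut.conj y⁻¹) 1 := hyψ ▸ hPn n
    rw [← normalizer_inf hD, Subgroup.mem_inf, H70.AutFix.mem_normalizer_iff_smul, H70.AutFix.mem_normalizer_iff_smul]
    exact ⟨Perm.smul_UU hD h3, Perm.smul_VN hD h3⟩
  obtain ⟨c', h4⟩ := val_conj (hD := hD) hyH
  obtain ⟨c'', h5⟩ := hv.pow n
  rw [hyψ] at h4
  exact h5.tau_unique h4

end Val

section Form

variable {D : ChevalleyDatum} {l : ℕ} {M : CoxeterMatrix (Fin l)} (hp : IsType D l M) {k : Type u} [Field k]
  {W : Type*} [Group W] (cs : CoxeterSystem M W) {p e : ℕ} [Fact p.Prime] [CharP k p]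
  {F : Type u} [Field F] [Fintype F] (f : F →+* k)

/-- an automorphism of a finite field of characteristic `p` is a power of the Frobenius -/
theorem exists_frob [CharP F p] (τ : RingAut F) : ∃ j : ℕ, ∀ x : F, τ x = x ^ p ^ j := by
  let _ : Algebra (ZMod p) F := ZMod.algebra F p
  have hcomm : (τ : F →+* F).comp (algebraMap (ZMod p) F) = algebraMap (ZMod p) F := Subsingleton.elim _ _
  let τ' : F →ₐ[ZMod p] F := { (τ : F →+* F) with commutes' := fun r => RingHom.congr_fun hcomm r }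
  obtain ⟨j, hj⟩ := (FiniteField.bijective_frobeniusAlgHom_pow (ZMod p) F).2 τ'
  refine ⟨j, fun x => ?_⟩
  have h1 : ∀ (n : ℕ) (y : F), ((FiniteField.frobeniusAlgHom (ZMod p) F) ^ n) y = y ^ p ^ n := by
    intro n y
    induction n generalizing y with
    | zero => simp
    | succ n ih =>
      rw [pow_succ, AlgHom.mul_apply, ih]
      simp [pow_succ, mul_comm, ← pow_mul]
  have h2 : τ' x = τ x := rfl
  rw [← h2, ← hj]
  exact h1 _ x

include cs in
/-- **The form of an automorphism**, given its values. -/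
theorem form_of_val [IsAlgClosed k] [CharP F p] (hq : Fintype.card F = p ^ e) {d' : ℕ} {B' : Fin l → Fin l → ℤ}
    (hB : InvC D l d' B') (hd' : d' ≠ 0) {ψ : MulAut ↥(D.group F)} {c : Fin D.rank → F}
    {τ : RingAut F} (hv : Val hp.inList ψ c τ) {j : ℕ} (hj : ∀ x : F, τ x = x ^ p ^ j) :
    ∃ T ∈ TT D k, phi D k p e T = T ∧ ∀ y : ↥(D.group F),
      emb hp.inList f (ψ y) = T * phi D k p j (emb hp.inList f y) * T⁻¹ := by
  set c' : Fin l → k := fun i => f (c ⟨i, lt_rank hp i⟩) with hc'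
  have hc0 : ∀ i, c' i ≠ 0 := fun i => by
    show f _ ≠ 0
    rw [Ne, map_eq_zero]
    exact hv.ne _
  have hφ : IsMC (fun x : Fin l → ℤ => ∏ i, c' i ^ x i) := IsMC.of_prod _ hc0
  have hval : ∀ i, (fun x : Fin l → ℤ => ∏ i, c' i ^ x i) (sr i) = c' i := by
    intro i
    show ∏ j, c' j ^ (sr i : Fin l → ℤ) j = _
    rw [Finset.prod_eq_single i]
    · rw [sr_self, zpow_one]
    · intro j _ hj
      rw [sr_ne hj, zpow_zero]
    · intro hi
      exact absurd (Finset.mem_univ i) hi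
  obtain ⟨T, hT, hcT⟩ := exists_cX hp hB hd' hφ
    (fun i => IsAlgClosed.exists_pow_nat_eq _ (Nat.pos_of_ne_zero hd'))
  have hcT' : ∀ i, cX hp T (sr i) = c' i := fun i => by rw [hcT]; exact hval i
  refine ⟨T, hT, ?_, ?_⟩
  · -- fixed by Frobenius
    have h1 : phi D k p e T ∈ TT D k := ((fr_phi (p := p) (e := e) hp cs).tor T).2 hT
    refine cX_inj hp h1 hT fun i => ?_
    have h2 := cX_sigma hp cs isFrob_phi (fr_phi (p := p) (e := e) hp cs) hT (sr i)
    rw [AddEquiv.refl_apply] at h2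
    rw [h2, hcT' i]
    have h3 := (frob_fix_iff f hq (c' i)).2 ⟨_, rfl⟩
    rwa [iterateFrobenius_def] at h3
  · -- the two homomorphisms agree
    have hact : ∀ (i : Fin l) (a : k), T * xc hp (sr i) a * T⁻¹ = xc hp (sr i) (c' i * a) := by
      intro i a
      rw [(ch_sr_act hp hT i).2, ← cX_sr, hcT']
    have hactn : ∀ (i : Fin l) (a : k), T * xc hp (-sr i) a * T⁻¹ = xc hp (-sr i) ((c' i)⁻¹ * a) := by
      intro i a
      have hr : D.neg (D.simple i) < D.nroots := neg_simple_lt hp.inList (lt_rank hp i)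
      have hvec : vec D l (D.neg (D.simple i)) = -sr i := by
        rw [vec_neg hp (S1042.simple_lt hp.inList (lt_rank hp i)), vec_simple hp i]
      have h3 := (act hp hr hT).2 a
      rw [hvec] at h3
      rw [h3, ← hvec, ← cX_vec hp hT hr, hvec, (isMC_cX hp hT).neg, hcT']
    have key : ((emb hp.inList f).comp ψ.toMonoidHom) =
        ((MulAut.conj T).toMonoidHom.comp ((phi D k p j).toMonoidHom.comp (emb hp.inList f))) := by
      refine H79.SimpleGen.hom_ext hp.inList _ _ ?_ ?_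
      · intro i hi t
        have hil : i < l := by rwa [← hp.rank_eq]
        have h4 := hv.pos ⟨i, hi⟩ t
        show emb hp.inList f (ψ (xe hp.inList (D.simple i) t)) =
          T * phi D k p j (emb hp.inList f (xe hp.inList (D.simple i) t)) * T⁻¹
        have h5 : ∀ s : F, xe hp.inList (D.simple i) s = xc hp (sr (⟨i, hil⟩ : Fin l)) s := by
          intro s
          apply Subtype.ext
          rw [coe_xe, ← vec_simple hp ⟨i, hil⟩, coe_xc hp (S1042.simple_lt hp.inList hi)]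
        rw [h4, h5, h5, emb_xc, emb_xc, phi_eq hp, emb_xc, hact, map_mul, hj, map_pow, iterateFrobenius_def]
      · intro i hi t
        have hil : i < l := by rwa [← hp.rank_eq]
        have h4 := hv.neg ⟨i, hi⟩ t
        show emb hp.inList f (ψ (xe hp.inList (D.neg (D.simple i)) t)) =
          T * phi D k p j (emb hp.inList f (xe hp.inList (D.neg (D.simple i)) t)) * T⁻¹
        have hr : D.neg (D.simple i) < D.nroots := neg_simple_lt hp.inList hi
        have hvec : vec D l (D.neg (D.simple i)) = -sr (⟨i, hil⟩ : Fin l) := by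
          rw [vec_neg hp (S1042.simple_lt hp.inList hi), ← vec_simple hp ⟨i, hil⟩]
        have h5 : ∀ s : F, xe hp.inList (D.neg (D.simple i)) s = xc hp (-sr (⟨i, hil⟩ : Fin l)) s := by
          intro s
          apply Subtype.ext
          rw [coe_xe, ← hvec, coe_xc hp hr]
        rw [h4, h5, h5, emb_xc, emb_xc, phi_eq hp, emb_xc, hactn, map_mul, map_inv₀, hj, map_pow,
          iterateFrobenius_def]
    intro y
    exact DFunLike.congr_fun key y

include cs in
/-- **The form of an automorphism of odd order.** -/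
theorem aut_form [IsAlgClosed k] [CharP F p] (hq : Fintype.card F = p ^ e) {d' : ℕ} {B' : Fin l → Fin l → ℤ}
    (hB : InvC D l d' B') (hd' : d' ≠ 0) (hR : ∀ π ∈ realised hp.inList F, π * π = 1) {a : MulAut ↥(D.group F)}
    {n : ℕ} (hn : Odd n) (ha : a ^ n = 1) :
    ∃ (Mt : ↥(D.group k)) (τ : RingAut F) (j : ℕ), phi D k p e Mt = Mt ∧ τ ^ n = 1 ∧ (∀ x : F, τ x = x ^ p ^ j) ∧
      (∃ (g : ↥(D.group F)) (T : ↥(D.group k)), T ∈ TT D k ∧ Mt = emb hp.inList f g * T) ∧
      ∀ y : ↥(D.group F), emb hp.inList f (a y) = Mt * phi D k p j (emb hp.inList f y) * Mt⁻¹ := by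
  obtain ⟨g, ψ, c, τ, hag, hv, hτ⟩ := exists_split hp.inList hR hn ha
  obtain ⟨j, hj⟩ := exists_frob (p := p) τ
  obtain ⟨T, hT, hT1, hT2⟩ := form_of_val hp cs f hq hB hd' hv hj
  refine ⟨emb hp.inList f g * T, τ, j, ?_, hτ, hj, ⟨g, T, hT, rfl⟩, fun y => ?_⟩
  · rw [map_mul, phi_emb hp f hq, hT1]
  · rw [hag, MulAut.mul_apply, MulAut.conj_apply, map_mul, map_mul, hT2, map_inv]
    group

end Form

end Cfsg.Agent.H719.AutForm
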