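import Cfsg.Agent.H129.UntwTwo

/-!
# Cyclic tori with small centralisers (helper719)

`D` a tabulated datum, `F` a finite field with `q = p ^ e` elements, `f : F →+* k`, `k` algebraically closed and
locally finite, `Cyc` data of a torus of order `N = f_w(q)`, `N0 ∣ N` prime to the order of the Weyl group, to `d'` and
to the values of the functional `Gq` on the roots.

* `Tor` : an element `x` of order `N0` of `D.group F`, conjugate in `D.group k` to a power of the generator `t` of the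
  twisted torus, such that the centraliser of every `1 ≠ s ∈ ⟨x⟩` in `D.group k` is the torus;
* `exists_tor` : existence;
* `Tor.pow_eq_one` : everything in `D.group F` commuting with `1 ≠ s ∈ ⟨x⟩` is killed by `N`.
-/

set_option autoImplicit false
set_option linter.unusedSectionVars false

namespace Cfsg.Agent.H719.RowTorus

open CoxeterSystem Cfsg Cfsg.Lie Cfsg.Lie.ChevalleyDatum
open Cfsg.Agent.ChevalleyStructure Cfsg.Agent.ChevalleyStructure.Elts Cfsg.Agent.ChevalleyStructure.CoxeterGeom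
  Cfsg.Agent.ChevalleyStructure.CoxeterGeomTypes Cfsg.Agent.ChevalleyStructure.NPerm
open Cfsg.Agent.Tits.Roots Cfsg.Agent.Tits.Core Cfsg.Agent.Nodes Cfsg.Agent.Nodes.Reps Cfsg.Agent.Nodes.BNOf
  Cfsg.Agent.Nodes.RGDChev Cfsg.Agent.Nodes.Bruhat Cfsg.Agent.Nodes.SubComb Cfsg.Agent.Nodes.Coroot
open Cfsg.Agent.KFacts.RgdField Cfsg.Agent.KFacts.RgdChevCoord Cfsg.Agent.BpExc.TorCent Cfsg.Agent.BpExc.TorChev
open Cfsg.Agent.GpExc.Field Cfsg.Agent.BpExc.Tow Cfsg.Agent.BpExc.TowChev Cfsg.Agent.BpExc.Fr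
  Cfsg.Agent.BpExc.LangFr Cfsg.Agent.LangThm Cfsg.Agent.BpExc Cfsg.Agent.H129.TorusChar Cfsg.Agent.H129.TorusCent
  Cfsg.Agent.H129.TorusTw Cfsg.Agent.H129.TorusMain Cfsg.Agent.H129.TorusUntw Cfsg.Agent.H129.UntwTwo

universe u

/-- An element of order prime to `d` with `y ^ d` in `R` is in `R`. -/
theorem mem_of_pow_mem {Y : Type*} [Group Y] {R : Subgroup Y} {y : Y} {d n : ℕ} (hy : y ^ n = 1)
    (hd : y ^ d ∈ R) (hdn : Nat.Coprime d n) : y ∈ R := by
  have h1 : y ^ ((d : ℤ) * Nat.gcdA d n + (n : ℤ) * Nat.gcdB d n) = y := by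
    rw [← Nat.gcd_eq_gcd_ab, hdn]
    simp
  rw [← h1, zpow_add, zpow_mul, zpow_mul, zpow_natCast, zpow_natCast, hy, one_zpow, mul_one]
  exact zpow_mem hd _

section

variable {D : ChevalleyDatum} {l : ℕ} {M : CoxeterMatrix (Fin l)} (hp : IsType D l M) {k : Type u} [Field k]
  {W : Type*} [Group W] (cs : CoxeterSystem M W) {p e : ℕ} [Fact p.Prime] [CharP k p]
  {F : Type u} [Field F] [Fintype F] (f : F →+* k)

/-- The element `x` of order `N0`, conjugate to `t ^ (N / N0)`. -/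
structure Tor [IsAlgClosed k] (p e : ℕ) [Fact p.Prime] [CharP k p] {hN : NSys M (TT D k) (nc hp k)} (w : W)
    (B : Fin l → Fin l → ℤ) (N N0 : ℕ) (n z t : ↥(D.group k)) (u : k) (x : ↥(D.group F)) : Prop where
  hn : Rp cs hN w n
  hz : n = z⁻¹ * phi D k p e z
  ht : t ∈ TT D k
  fixed : n * phi D k p e t * n⁻¹ = t
  order : orderOf t = N
  prim : IsPrimitiveRoot u N
  char : ∀ y, cX hp t y = u ^ Gq B ((p ^ e : ℕ) : ℤ) y
  gen : ∀ s ∈ TT D k, n * phi D k p e s * n⁻¹ = s → s ∈ Subgroup.zpowers t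
  hx : orderOf x = N0
  emb_x : emb hp.inList f x = z * t ^ (N / N0) * z⁻¹
  cent : ∀ s ∈ Subgroup.zpowers x, s ≠ 1 → ∀ y : ↥(D.group k), y * emb hp.inList f s = emb hp.inList f s * y →
    z⁻¹ * y * z ∈ TT D k

/-- An element of prime order `r` of the torus is regular. -/
theorem regular (p : ℕ) [Fact p.Prime] [CharP k p] [IsAlgClosed k] [Finite W] (hk : LocFin k) {t : ↥(D.group k)} (ht : t ∈ TT D k)
    {r : ℕ} (hr : r.Prime) (hrW : ¬ r ∣ Nat.card W) (hpow : ∀ a, IsRoot cs hp.isCartan a → cX hp t a ^ r = 1)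
    (hne : ∀ a, IsRoot cs hp.isCartan a → cX hp t a ≠ 1) {y : ↥(D.group k)} (hy : y * t = t * y) : y ∈ TT D k := by
  refine mem_TT_of_comm hp cs ht hk p hne (fun w' hw' => ?_) hy
  refine stab_eq_one hp cs ht hk p hr hrW (m := 1) (fun a ha => by rw [one_mul]; exact hpow a ha)
    (fun a ha h1 => absurd (by rwa [pow_one] at h1) (hne a ha)) ?_ hw'
  rintro a ⟨ha, h1⟩
  rw [pow_one] at h1
  exact absurd h1 (hne a ha)

/-- **Existence.** -/
theorem exists_tor [IsAlgClosed k] [Finite W] (hl : 0 < l) (hk : LocFin k) {hN : NSys M (TT D k) (nc hp k)}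
    (he : 0 < e) (hq : Fintype.card F = p ^ e) {d' : ℕ}
    {B' : Fin l → Fin l → ℤ} (hB : InvC D l d' B') (hd' : d' ≠ 0) (w : W) {V B : Fin l → Fin l → ℤ} {c : Fin l → ℤ}
    (h : Cyc l (theta hp cs w (AddEquiv.refl (Fin l → ℤ))) V B c) {N N0 : ℕ} (hfN : fN c ((p ^ e : ℕ) : ℤ) = N)
    (hpN : ¬ p ∣ N) (hN0 : N0 ∣ N)
    (hgood : ∀ r, r.Prime → r ∣ N0 → ¬ r ∣ Nat.card W ∧ ¬ r ∣ d' ∧
      ∀ a, IsRoot cs hp.isCartan a → ¬ (r : ℤ) ∣ Gq B ((p ^ e : ℕ) : ℤ) a) :
    ∃ (n z t : ↥(D.group k)) (u : k) (x : ↥(D.group F)), Tor hp cs f p e (hN := hN) w B N N0 n z t u x := by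
  have hNne : N ≠ 0 := fun h0 => hpN (by rw [h0]; exact dvd_zero p)
  have hN0ne : N0 ≠ 0 := fun h0 => hNne (by rw [h0] at hN0; exact Nat.eq_zero_of_zero_dvd hN0)
  have hNk : (N : k) ≠ 0 := by
    rw [Ne, CharP.cast_eq_zero_iff k p]
    exact hpN
  have hσ := isFrob_phi (D := D) (k := k) (p := p) (e := e)
  have F' := fr_phi (k := k) (p := p) (e := e) hp cs
  obtain ⟨n, hn⟩ := exists_rp cs hN w
  obtain ⟨z, hz⟩ := lang_all hp cs he hσ F' 1 n
  rw [map_one, one_mul] at hz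
  obtain ⟨t, ht, hθ, htN, ⟨u, hu, hcX⟩, hgen⟩ := exists_gen hp h hl hB hd' (q := p ^ e) hfN hNk
  have hτ : n * phi D k p e t * n⁻¹ = t := (tau_iff hp cs hk hσ F' hn ht).2 hθ
  obtain ⟨m, hm⟩ := hN0
  have hNm : N / N0 = m := by rw [hm, Nat.mul_div_cancel_left _ (Nat.pos_of_ne_zero hN0ne)]
  have hm0 : m ≠ 0 := by rintro rfl; rw [mul_zero] at hm; exact hNne hm
  -- the element `x`
  have hy0 : phi D k p e (z * t ^ m * z⁻¹) = z * t ^ m * z⁻¹ :=
    conj_fixed hz hτ (Subgroup.npow_mem_zpowers t m)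
  have hdN0 : Nat.Coprime d' N0 := by
    apply Nat.Coprime.symm
    rw [Nat.coprime_iff_gcd_eq_one]
    by_contra hcon
    obtain ⟨r, hr, hrd⟩ := Nat.exists_prime_and_dvd hcon
    exact (hgood r hr (hrd.trans (Nat.gcd_dvd_left _ _))).2.1 (hrd.trans (Nat.gcd_dvd_right _ _))
  have hordm : orderOf (t ^ m) = N0 := by
    rw [orderOf_pow_of_dvd hm0 (by rw [htN, hm]; exact Dvd.intro_left _ rfl), htN, hm,
      Nat.mul_div_cancel _ (Nat.pos_of_ne_zero hm0)]
  have hcon : ∀ s : ↥(D.group k), orderOf (z * s * z⁻¹) = orderOf s := fun s => by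
    have h3 : z * s * z⁻¹ = MulAut.conj z s := rfl
    rw [h3]
    exact orderOf_injective (MulAut.conj z).toMonoidHom (MulAut.conj z).injective s
  obtain ⟨x, hx⟩ : z * t ^ m * z⁻¹ ∈ (emb hp.inList f).range := by
    refine mem_of_pow_mem (n := N0) ?_ (fix_pow_range hp cs f hq hB hd' hy0) hdN0
    have := pow_orderOf_eq_one (z * t ^ m * z⁻¹)
    rwa [hcon, hordm] at this
  have hxo : orderOf x = N0 := by
    rw [← orderOf_injective _ (emb_injective hp.inList f) x, hx, hcon, hordm]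
  refine ⟨n, z, t, u, x, hn, hz, ht, hτ, htN, hu, hcX,
    fun s hs hs' => hgen s hs ((tau_iff hp cs hk hσ F' hn hs).1 hs'), hxo, by rw [hNm, hx], ?_⟩
  -- the centraliser
  intro s hs hs1 y hy
  obtain ⟨i, hi⟩ := hs
  have hi' : x ^ i = s := hi
  -- a prime divisor of the order of `s`
  have hso : orderOf s ∣ N0 := by rw [← hxo, ← hi']; exact orderOf_dvd_of_mem_zpowers (Subgroup.zpow_mem_zpowers x i)
  have hs0 : orderOf s ≠ 1 := by rwa [Ne, orderOf_eq_one_iff]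
  obtain ⟨r, hr, hrs⟩ := Nat.exists_prime_and_dvd hs0
  obtain ⟨hrW, -, hrG⟩ := hgood r hr (hrs.trans hso)
  have hsne : orderOf s ≠ 0 := fun h0 => hN0ne (by rw [h0] at hso; exact Nat.eq_zero_of_zero_dvd hso)
  set j := orderOf s / r with hj
  have hjr : orderOf s = j * r := by rw [hj, Nat.div_mul_cancel hrs]
  have hj0 : j ≠ 0 := by rintro h0; rw [h0, zero_mul] at hjr; exact hsne hjr
  have hsj : orderOf (s ^ j) = r := by
    rw [orderOf_pow_of_dvd hj0 (Dvd.intro _ hjr.symm), hjr, Nat.mul_div_cancel_left _ (Nat.pos_of_ne_zero hj0)]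
  -- `emb (s ^ j) = z t' z⁻¹`
  set t' := (t ^ m) ^ (i * j) with ht'
  have ht'T : t' ∈ TT D k := zpow_mem (pow_mem ht m) _
  have hes : emb hp.inList f (s ^ j) = z * t' * z⁻¹ := by
    rw [ht', ← conj_zpow, ← hx, ← map_zpow, zpow_mul, hi', zpow_natCast]
  have ht'o : orderOf t' = r := by
    rw [← hcon, ← hes, orderOf_injective _ (emb_injective hp.inList f), hsj]
  have hyt : (z⁻¹ * y * z) * t' = t' * (z⁻¹ * y * z) := by
    have h1 : y * emb hp.inList f (s ^ j) = emb hp.inList f (s ^ j) * y := by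
      rw [map_pow]
      exact (show Commute y (emb hp.inList f s) from hy).pow_right j
    rw [hes] at h1
    calc z⁻¹ * y * z * t' = z⁻¹ * (y * (z * t' * z⁻¹)) * z := by group
      _ = z⁻¹ * (z * t' * z⁻¹ * y) * z := by rw [h1]
      _ = _ := by group
  have ht'r : t' ^ r = 1 := by rw [← ht'o, pow_orderOf_eq_one]
  -- the exponent of `t'` as a power of `t`
  have ht't : t' = t ^ ((m : ℤ) * (i * j)) := by rw [ht', ← zpow_natCast, ← zpow_mul]
  set E : ℤ := (m : ℤ) * (i * j) with hE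
  have hval : ∀ a, cX hp t' a = u ^ (E * Gq B ((p ^ e : ℕ) : ℤ) a) := by
    intro a
    have h1 := (isMC_cX hp ht).ne_zero a
    -- powers
    have h2 : ∀ g : ℤ, cX hp (t ^ g) a = cX hp t a ^ g := by
      intro g
      obtain ⟨b, rfl | rfl⟩ := Int.eq_nat_or_neg g
      · rw [zpow_natCast, zpow_natCast, cX_pow hp ht]
      · have h3 : cX hp (t ^ (-(b : ℤ))) a * cX hp (t ^ b) a = 1 := by
          rw [← cX_mul hp (zpow_mem ht _) (pow_mem ht _), zpow_neg, zpow_natCast, inv_mul_cancel, cX_one]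
        rw [cX_pow hp ht] at h3
        rw [zpow_neg (cX hp t a), zpow_natCast]
        exact eq_inv_of_mul_eq_one_left h3
    rw [ht't, h2, hcX, ← zpow_mul, mul_comm]
  have hone : ∀ g : ℤ, u ^ g = 1 ↔ (N : ℤ) ∣ g := fun g => hu.zpow_eq_one_iff_dvd g
  have htg : ∀ g : ℤ, t ^ g = 1 ↔ (N : ℤ) ∣ g := fun g => by rw [← htN, orderOf_dvd_iff_zpow_eq_one]
  have hEr : (N : ℤ) ∣ E * r := by
    rw [← htg, zpow_mul, ← ht't, zpow_natCast]; exact ht'r
  have hEn : ¬ (N : ℤ) ∣ E := by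
    rw [← htg, ← ht't]
    intro h1
    rw [h1, orderOf_one] at ht'o
    exact hr.one_lt.ne ht'o
  refine regular hp cs p hk ht'T hr hrW ?_ ?_ hyt
  · intro a _
    rw [hval, ← zpow_natCast, ← zpow_mul, hone]
    have e1 : E * Gq B ((p ^ e : ℕ) : ℤ) a * (r : ℤ) = (E * r) * Gq B ((p ^ e : ℕ) : ℤ) a := by ring
    rw [e1]
    exact hEr.mul_right _
  · intro a ha h1
    rw [hval, hone] at h1
    have hcop : IsCoprime (Gq B ((p ^ e : ℕ) : ℤ) a) (r : ℤ) :=
      ((Nat.prime_iff_prime_int.1 hr).coprime_iff_not_dvd.2 (hrG a ha)).symm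
    obtain ⟨α, β, hαβ⟩ := hcop
    apply hEn
    have e1 : E = α * (E * Gq B ((p ^ e : ℕ) : ℤ) a) + β * (E * r) := by
      calc E = E * 1 := (mul_one E).symm
        _ = E * (α * Gq B ((p ^ e : ℕ) : ℤ) a + β * (r : ℤ)) := by rw [hαβ]
        _ = _ := by ring
    rw [e1]
    exact dvd_add (h1.mul_left _) (hEr.mul_left _)

variable {hp cs f}

/-- The centraliser in the group of fixed points. -/
theorem Tor.mem_zpowers [IsAlgClosed k] {hN : NSys M (TT D k) (nc hp k)} {w : W} {B : Fin l → Fin l → ℤ} {N N0 : ℕ}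
    {n z t : ↥(D.group k)} {u : k} {x : ↥(D.group F)} (h : Tor hp cs f p e (hN := hN) w B N N0 n z t u x)
    {s : ↥(D.group F)} (hs : s ∈ Subgroup.zpowers x) (hs1 : s ≠ 1) {y : ↥(D.group k)}
    (hy : y * emb hp.inList f s = emb hp.inList f s * y) (hφ : phi D k p e y = y) :
    z⁻¹ * y * z ∈ Subgroup.zpowers t := by
  have h3 := h.cent s hs hs1 y hy
  refine h.gen _ h3 ?_
  have hz := h.hz
  rw [map_mul, map_mul, map_inv, hφ, hz]
  group

theorem Tor.pow_eq_one [IsAlgClosed k] {hN : NSys M (TT D k) (nc hp k)} {w : W} {B : Fin l → Fin l → ℤ} {N N0 : ℕ}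
    {n z t : ↥(D.group k)} {u : k} {x : ↥(D.group F)} (h : Tor hp cs f p e (hN := hN) w B N N0 n z t u x)
    (hq : Fintype.card F = p ^ e) {s : ↥(D.group F)} (hs : s ∈ Subgroup.zpowers x) (hs1 : s ≠ 1) {y : ↥(D.group F)}
    (hy : y * s = s * y) : y ^ N = 1 := by
  have h1 := h.mem_zpowers hs hs1 (y := emb hp.inList f y) (by rw [← map_mul, hy, map_mul]) (phi_emb hp f hq y)
  obtain ⟨i, hi⟩ := h1
  have hi' : t ^ i = z⁻¹ * emb hp.inList f y * z := hi
  have h2 : (z⁻¹ * emb hp.inList f y * z) ^ N = 1 := by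
    rw [← hi', ← zpow_natCast, ← zpow_mul, mul_comm, zpow_mul, zpow_natCast, ← h.order, pow_orderOf_eq_one, one_zpow]
  apply emb_injective hp.inList f
  rw [map_pow, map_one]
  have h3 : emb hp.inList f y = z * (z⁻¹ * emb hp.inList f y * z) * z⁻¹ := by group
  rw [h3, conj_pow, h2]
  group

end

end Cfsg.Agent.H719.RowTorus
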